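import Mathlib
import Cfsg.Agent.GT.Conj
import Cfsg.Agent.GT.PGroupBasic
import Cfsg.Agent.GT.CoprimeFixed
import Cfsg.Agent.GT.CoprimeAbelian

/-! Classes of subgroups of order `p` any two of which generate a fixed group: basic geometry. -/

set_option autoImplicit false
set_option linter.unusedSectionVars false

namespace Cfsg.Agent.AFro

open Subgroup
open scoped commutatorElement

local notation:75 H " ^ᶜ " g:76 => Subgroup.map (MulEquiv.toMonoidHom (MulAut.conj g)) H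

variable {G : Type*} [Group G]

/-- The subgroup generated by the members of `D` inside `H`. -/
def gen (D : Set (Subgroup G)) (H : Subgroup G) : Subgroup G := sSup {B | B ∈ D ∧ B ≤ H}

section gen
variable {D : Set (Subgroup G)} {H K B : Subgroup G}

theorem gen_le_iff : gen D H ≤ K ↔ ∀ B ∈ D, B ≤ H → B ≤ K :=
  sSup_le_iff.trans ⟨fun h B h1 h2 => h B ⟨h1, h2⟩, fun h B hB => h B hB.1 hB.2⟩

theorem gen_le : gen D H ≤ H := gen_le_iff.2 fun _ _ h => h

theorem le_gen (hB : B ∈ D) (h : B ≤ H) : B ≤ gen D H := le_sSup ⟨hB, h⟩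

theorem gen_mono (h : H ≤ K) : gen D H ≤ gen D K :=
  gen_le_iff.2 fun _ hB h' => le_gen hB (h'.trans h)

/-- `X` is generated by members of `D`. -/
def Sub (D : Set (Subgroup G)) (X : Subgroup G) : Prop := X ≤ gen D X

theorem Sub.le {X : Subgroup G} (h : Sub D X) (h' : ∀ B ∈ D, B ≤ X → B ≤ K) : X ≤ K :=
  le_trans h (gen_le_iff.2 h')

theorem Sub.le_gen {X : Subgroup G} (h : Sub D X) (h' : X ≤ H) : X ≤ gen D H :=
  le_trans h (gen_mono h')

theorem sub_gen : Sub D (gen D H) := gen_le_iff.2 fun _ hB h => le_gen hB (le_gen hB h)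

theorem sub_mem (hB : B ∈ D) : Sub D B := le_gen hB le_rfl

theorem Sub.sup {X Y : Subgroup G} (hX : Sub D X) (hY : Sub D Y) : Sub D (X ⊔ Y) :=
  sup_le (hX.le_gen le_sup_left) (hY.le_gen le_sup_right)

theorem sub_top (h : sSup D = ⊤) : Sub D ⊤ :=
  h.ge.trans (sSup_le fun _ hB => le_gen hB le_top)

end gen

theorem comm_le {X N A : Subgroup G} (hX : X ≤ N ⊔ A) (hn : A ≤ normalizer (N : Set G))
    (hA : ∀ a ∈ A, ∀ b ∈ A, Commute a b) : ⁅X, X⁆ ≤ N := by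
  have h1 : N ⊔ A ≤ normalizer (N : Set G) := sup_le le_normalizer hn
  refine (commutator_mono hX hX).trans (GT.commutator_sup_le h1
    (le_normalizer_iff_commutator_le_left.1 h1) ?_)
  rw [commutator_comm]
  refine GT.commutator_sup_le h1 (le_normalizer_iff_commutator_le_left.1 hn) ?_
  exact commutator_le.2 fun a ha b hb => by
    rw [commutatorElement_eq_one_iff_commute.2 (hA a ha b hb)]; exact one_mem _

theorem comm_self_le (X : Subgroup G) : ⁅X, X⁆ ≤ X :=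
  le_normalizer_iff_commutator_le_left.1 le_normalizer

theorem norm_comm {H X : Subgroup G} (h : H ≤ normalizer (X : Set G)) :
    H ≤ normalizer ((⁅X, X⁆ : Subgroup G) : Set G) := GT.le_normalizer_commutator h h

theorem mem_norm_comm {X : Subgroup G} {g : G} (h : g ∈ normalizer (X : Set G)) :
    g ∈ normalizer ((⁅X, X⁆ : Subgroup G) : Set G) := norm_comm le_rfl h

theorem ncard_orb (H A : Subgroup G) :
    {B | ∃ h ∈ H, A ^ᶜ h = B}.ncard = (normalizer (A : Set G)).relIndex H := by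
  open Pointwise in
  let : MulAction H (Subgroup G) := MulAction.compHom _ ((MulAut.conj (G := G)).comp H.subtype)
  have h1 : MulAction.stabilizer H A = (normalizer (A : Set G)).subgroupOf H := by
    ext h
    exact GT.map_conj_eq_self_iff (H := A) (g := h)
  rw [relIndex, ← h1, MulAction.index_stabilizer]
  congr 1
  ext B
  exact ⟨fun ⟨h, hh, e⟩ => ⟨⟨h, hh⟩, e⟩, fun ⟨h, e⟩ => ⟨h, h.2, e⟩⟩

theorem fix_odd [Finite G] {t : G} (ht : t * t ∈ center G) {T : Set (Subgroup G)}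
    (hT : ∀ B ∈ T, B ^ᶜ t ∈ T) (ho : Odd T.ncard) : ∃ B ∈ T, t ∈ normalizer (B : Set G) := by
  classical
  have := Fintype.ofFinite T
  let f : T → T := fun B => ⟨B.1 ^ᶜ t, hT B B.2⟩
  have hf : Function.Involutive f := fun B => Subtype.ext (by
    show (B.1 ^ᶜ t) ^ᶜ t = B.1
    rw [GT.map_conj_map_conj]
    exact GT.map_conj_eq_of_mem_norm (centralizer_le_normalizer _ (center_le_centralizer _ ht)))
  obtain ⟨B, hB⟩ := Equiv.Perm.exists_fixed_point_of_prime (p := 2) (n := 1) (σ := hf.toPerm f)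
    (by rw [← Nat.card_eq_fintype_card, Nat.card_coe_set_eq, ← even_iff_two_dvd]
        exact Nat.not_even_iff_odd.2 ho) (by ext1 B; exact hf B)
  exact ⟨B, B.2, GT.map_conj_eq_self_iff.1 (congrArg Subtype.val hB)⟩

section prime
variable [Finite G] {p : ℕ} {A : Subgroup G}

theorem ord_of (hp : p.Prime) (hA : Nat.card A = p) {a : G} (ha : a ∈ A) (h1 : a ≠ 1) :
    orderOf a = p :=
  ((Nat.dvd_prime hp).1 (hA ▸ A.orderOf_dvd_natCard ha)).resolve_left (by simpa using h1)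

theorem zp_of (hp : p.Prime) (hA : Nat.card A = p) {a : G} (ha : a ∈ A) (h1 : a ≠ 1) :
    zpowers a = A :=
  eq_of_le_of_card_ge (zpowers_le.2 ha) (by rw [Nat.card_zpowers, ord_of hp hA ha h1, hA])

theorem le_of_inf (hp : p.Prime) (hA : Nat.card A = p) {S : Subgroup G} (h : A ⊓ S ≠ ⊥) :
    A ≤ S := by
  obtain ⟨⟨a, ha, haS⟩, h1⟩ := ne_bot_iff_exists_ne_one.1 h
  rw [← zp_of hp hA ha fun e => h1 (Subtype.ext e)]
  exact zpowers_le.2 haS

theorem gen_of (hp : p.Prime) (hA : Nat.card A = p) : ∃ a ∈ A, a ≠ 1 := by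
  have : A ≠ ⊥ := by rintro rfl; exact hp.one_lt.ne (by simpa using hA)
  obtain ⟨⟨a, ha⟩, h1⟩ := ne_bot_iff_exists_ne_one.1 this
  exact ⟨a, ha, fun e => h1 (Subtype.ext e)⟩

theorem comm_of (hp : p.Prime) (hA : Nat.card A = p) : ∀ a ∈ A, ∀ b ∈ A, Commute a b := by
  obtain ⟨c, hc, h1⟩ := gen_of hp hA
  rw [← zp_of hp hA hc h1]
  rintro _ ⟨i, rfl⟩ _ ⟨j, rfl⟩
  exact Commute.zpow_zpow_self c i j

/-- A `r`-group normalizing and normalized by a group of prime order centralizes it. -/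
theorem cent_of_norm (hp : p.Prime) (hA : Nat.card A = p) {r : ℕ} (hr : r.Prime) {S : Subgroup G}
    (hS : IsPGroup r S) (h1 : S ≤ normalizer (A : Set G)) (h2 : A ≤ normalizer (S : Set G)) :
    S ≤ centralizer (A : Set G) := by
  by_cases h : A ⊓ S = ⊥
  · exact (le_inf le_rfl h1).trans
      ((GT.CopAct.inf_normalizer_eq_inf_centralizer h2 h).le.trans inf_le_right)
  have hAS := le_of_inf hp hA h
  have := Fact.mk hr
  have := hS.isNilpotent
  have := normal_subgroupOf_of_le_normalizer h1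
  have h3 := GT.PG.le_center_of_card_prime hp (A.subgroupOf S)
    (by rw [Nat.card_congr (subgroupOfEquivOfLe hAS).toEquiv, hA])
  intro s hs a ha
  exact congrArg Subtype.val (mem_center_iff.1 (h3 (show (⟨a, hAS ha⟩ : S) ∈ _ from ha)) ⟨s, hs⟩).symm

end prime

/-- A noncentral solvable normal subgroup contains a noncentral normal subgroup of prime power
order with central derived group. -/
theorem exists_M [Finite G] (N : Subgroup G) [N.Normal] (hs : Group.IsSolvable N)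
    (hc : ¬ N ≤ center G) : ∃ r : ℕ, r.Prime ∧ ∃ M : Subgroup G, M.Normal ∧ M ≤ N ∧ IsPGroup r M ∧
      ¬ M ≤ center G ∧ ⁅M, M⁆ ≤ center G := by
  obtain ⟨M, -, ⟨hn, hMN, hMc⟩, hm⟩ := Finite.exists_le_minimal
    (p := fun M : Subgroup G => M.Normal ∧ M ≤ N ∧ ¬ M ≤ center G) (a := N) ⟨‹_›, le_rfl, hc⟩
  have hM1 : M ≠ ⊥ := by rintro rfl; exact hMc bot_le
  have h1 : ⁅M, M⁆ ≤ center G := by
    by_contra h
    have h2 := hm ⟨inferInstance, (comm_self_le M).trans hMN, h⟩ (comm_self_le M)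
    have : Group.IsSolvable M := Group.isSolvable_of_isSolvable_injective (f := inclusion hMN)
      (inclusion_injective hMN)
    have := (Subgroup.nontrivial_iff_ne_bot M).2 hM1
    have h3 := Group.IsSolvable.commutator_lt_top_of_nontrivial M
    rw [← map_subtype_commutator] at h2
    refine h3.ne (eq_top_iff.2 fun x _ => ?_)
    obtain ⟨y, hy, e⟩ := h2 x.2
    exact (Subtype.ext e : y = x) ▸ hy
  have hnil : Group.IsNilpotent M := by
    refine isNilpotent_of_lowerCentralSeries_eq_bot (n := 2) (eq_bot_iff.2 (commutator_le.2 ?_))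
    intro x hx y _
    exact commutatorElement_eq_one_iff_commute.2 (mem_center_iff.1 (h1 hx) y).symm
  by_contra! hh
  refine hMc fun x hx => ?_
  have key : ∀ (r : ℕ) [Fact r.Prime] (P : Sylow r M), (P : Subgroup M).map M.subtype ≤ center G :=
    fun r _ P => by
      by_contra h
      have hPn : (P : Subgroup M).Normal := P.normal_of_normalizerCondition
        Group.normalizerCondition_of_isNilpotent
      have := P.characteristic_of_normal hPn
      have h2 := hm ⟨inferInstance, (map_subtype_le _).trans hMN, h⟩ (map_subtype_le _)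
      exact hh r Fact.out M hn hMN ((P.isPGroup'.map M.subtype).to_le h2) hMc h1
  have : (⊤ : Subgroup M) ≤ (center G).subgroupOf M := by
    refine top_le_iff.2 (index_eq_one.1 ?_)
    by_contra h
    obtain ⟨r, hr, hd⟩ := Nat.exists_prime_and_dvd h
    have := Fact.mk hr
    obtain ⟨P⟩ := (inferInstance : Nonempty (Sylow r M))
    exact P.not_dvd_index (hd.trans (index_dvd_of_le (map_le_iff_le_comap.1 (key r P))))
  exact this (mem_top ⟨x, hx⟩)

/-- The standing hypothesis. -/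
structure Hyp (p q : ℕ) (F : Type*) [Group F] (D : Set (Subgroup G)) : Prop where
  hp : p.Prime
  hq : q.Prime
  p2 : p ≠ 2
  q2 : q ≠ 2
  pq : p ≠ q
  card : ∀ A ∈ D, Nat.card A = p
  inv : ∀ A ∈ D, ∀ g : G, A ^ᶜ g ∈ D
  pair : ∀ A ∈ D, ∀ B ∈ D, A ≠ B → Nonempty (↥(A ⊔ B) ≃* F)
  qF : IsPGroup q (commutator F)
  nab : commutator F ≠ ⊥

theorem comm_equiv {F : Type*} [Group F] {L : Subgroup G} (e : L ≃* F) :
    Nonempty ((⁅L, L⁆ : Subgroup G) ≃* commutator F) := by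
  rw [← map_subtype_commutator]
  have : (commutator L).map (e : L →* F) = commutator F := by
    rw [commutator_def, map_commutator, map_top_of_surjective _ e.surjective]; rfl
  exact ⟨((commutator L).equivMapOfInjective _ L.subtype_injective).symm.trans
    (this ▸ (commutator L).equivMapOfInjective _ e.injective)⟩

namespace Hyp
variable [Finite G] {p q : ℕ} {F : Type*} [Group F] {D : Set (Subgroup G)} (h : Hyp p q F D)
variable {A B C E X S H : Subgroup G}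
include h

theorem zp (hA : A ∈ D) {a : G} (ha : a ∈ A) (h1 : a ≠ 1) : zpowers a = A :=
  zp_of h.hp (h.card A hA) ha h1

theorem ord (hA : A ∈ D) {a : G} (ha : a ∈ A) (h1 : a ≠ 1) : orderOf a = p :=
  ord_of h.hp (h.card A hA) ha h1

theorem ex (hA : A ∈ D) : ∃ a ∈ A, a ≠ 1 := gen_of h.hp (h.card A hA)

theorem comm (hA : A ∈ D) : ∀ a ∈ A, ∀ b ∈ A, Commute a b := comm_of h.hp (h.card A hA)

theorem eq_of_le (hA : A ∈ D) (hB : B ∈ D) (hle : A ≤ B) : A = B :=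
  eq_of_le_of_card_ge hle (by rw [h.card A hA, h.card B hB])

theorem eq_of_mem (hA : A ∈ D) (hB : B ∈ D) {a : G} (ha : a ∈ A) (hb : a ∈ B) (h1 : a ≠ 1) :
    A = B := by rw [← h.zp hA ha h1, ← h.zp hB hb h1]

theorem pA (hA : A ∈ D) : IsPGroup p A := IsPGroup.of_card (n := 1) (by rw [h.card A hA, pow_one])

theorem pq_bot (h1 : IsPGroup p S) (h2 : IsPGroup q S) : S = ⊥ := by
  have := Fact.mk h.hp
  have := Fact.mk h.hq
  simpa using (IsPGroup.disjoint_of_ne p q h.pq S S h1 h2).eq_bot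

theorem inf_q (hA : A ∈ D) (hS : IsPGroup q S) : A ⊓ S = ⊥ :=
  h.pq_bot ((h.pA hA).to_le inf_le_left) (hS.to_le inf_le_right)

theorem cop (hA : A ∈ D) (hS : IsPGroup q S) : (Nat.card A).Coprime (Nat.card S) := by
  have := Fact.mk h.hq
  exact GT.CopAct.coprime_of_isPGroup_right
    (by rw [h.card A hA]; exact (Nat.coprime_primes h.hp h.hq).2 h.pq) hS

theorem qL (hA : A ∈ D) (hB : B ∈ D) : IsPGroup q (⁅A ⊔ B, A ⊔ B⁆ : Subgroup G) := by
  by_cases e : A = B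
  · subst e
    exact IsPGroup.of_bot.to_le (comm_le (by simp) le_normalizer_of_normal (h.comm hA))
  obtain ⟨f⟩ := h.pair A hA B hB e
  obtain ⟨f⟩ := comm_equiv f
  exact h.qF.of_equiv f.symm

theorem neL (hA : A ∈ D) (hB : B ∈ D) (e : A ≠ B) : (⁅A ⊔ B, A ⊔ B⁆ : Subgroup G) ≠ ⊥ := by
  obtain ⟨f⟩ := h.pair A hA B hB e
  obtain ⟨f⟩ := comm_equiv f
  intro h1
  refine h.nab (card_eq_one.1 ?_)
  rw [← Nat.card_congr f.toEquiv, h1, card_bot]

theorem np (hA : A ∈ D) (hB : B ∈ D) (hP : IsPGroup p (A ⊔ B : Subgroup G)) : A = B := by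
  by_contra e
  exact h.neL hA hB e (h.pq_bot (hP.to_le (comm_self_le _)) (h.qL hA hB))

theorem eq_of_norm (hA : A ∈ D) (hB : B ∈ D) (hn : B ≤ normalizer (A : Set G)) : A = B :=
  h.np hA hB (sup_comm B A ▸ GT.PG.isPGroup_sup_of_le_normalizer (h.pA hB) (h.pA hA) hn)

theorem eq_of_cent (hA : A ∈ D) (hB : B ∈ D) (hn : B ≤ centralizer (A : Set G)) : A = B :=
  h.eq_of_norm hA hB (hn.trans (centralizer_le_normalizer _))

theorem lin (hA : A ∈ D) (hB : B ∈ D) (hC : C ∈ D) (hE : E ∈ D) (e : C ≠ E) (h1 : C ≤ A ⊔ B)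
    (h2 : E ≤ A ⊔ B) : C ⊔ E = A ⊔ B := by
  by_cases e' : A = B
  · subst e'
    rw [sup_idem] at h1 h2
    exact absurd ((h.eq_of_le hC hA h1).trans (h.eq_of_le hE hA h2).symm) e
  obtain ⟨f⟩ := h.pair A hA B hB e'
  obtain ⟨f'⟩ := h.pair C hC E hE e
  exact eq_of_le_of_card_ge (sup_le h1 h2)
    (by rw [Nat.card_congr f.toEquiv, Nat.card_congr f'.toEquiv])

theorem conj (hA : A ∈ D) (hB : B ∈ D) (h1 : A ≤ H) (h2 : B ≤ H) : ∃ g ∈ H, A ^ᶜ g = B := by
  have := Fact.mk h.hp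
  obtain ⟨P, hP⟩ := ((h.pA hA).comap_of_injective _ H.subtype_injective).exists_le_sylow
  obtain ⟨Q, hQ⟩ := ((h.pA hB).comap_of_injective _ H.subtype_injective).exists_le_sylow
  obtain ⟨g, rfl⟩ := MulAction.exists_smul_eq H P Q
  refine ⟨g, g.2, h.np (h.inv A hA g) hB (((g • P).isPGroup'.map H.subtype).to_le (sup_le ?_ ?_))⟩
  · rintro _ ⟨a, ha, rfl⟩
    exact ⟨_, ⟨⟨a, h1 ha⟩, hP ha, rfl⟩, rfl⟩
  · exact fun b hb => ⟨⟨b, h2 hb⟩, hQ hb, rfl⟩

omit h in
theorem conj_le {g : G} (hc : ∀ a ∈ A, ⁅g, a⁆ ∈ S) : A ^ᶜ g ≤ S ⊔ A := by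
  rintro _ ⟨a, ha, rfl⟩
  have : MulAut.conj g a = ⁅g, a⁆ * a := by simp [commutatorElement_def]
  exact this ▸ mul_mem_sup (hc a ha) ha

theorem sub_le (hX : Sub D X) (hA : A ∈ D) (h1 : A ≤ X) : X ≤ ⁅X, X⁆ ⊔ A :=
  hX.le fun B hB h2 => by
    obtain ⟨g, hg, rfl⟩ := h.conj hA hB h1 h2
    exact conj_le fun a ha => commutator_mem_commutator hg (h1 ha)

theorem dec (hX : Sub D X) (hA : A ∈ D) (h1 : A ≤ X) {g : G} (hg : g ∈ X) :
    ∃ x ∈ ⁅X, X⁆, ∃ a ∈ A, x * a = g :=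
  (GT.PG.mem_sup_of_le_normalizer (norm_comm (h1.trans le_normalizer))).1 (h.sub_le hX hA h1 hg)

theorem conj' (hX : Sub D X) (hA : A ∈ D) (hB : B ∈ D) (h1 : A ≤ X) (h2 : B ≤ X) :
    ∃ x ∈ ⁅X, X⁆, A ^ᶜ x = B := by
  obtain ⟨g, hg, rfl⟩ := h.conj hA hB h1 h2
  obtain ⟨x, hx, a, ha, rfl⟩ := h.dec hX hA h1 hg
  exact ⟨x, hx, by rw [GT.map_conj_mul, GT.map_conj_eq_of_mem ha]⟩

theorem comm_eq (hX : Sub D X) (hA : A ∈ D) (h1 : A ≤ X) : ⁅X, X⁆ ≤ ⁅⁅X, X⁆, A⁆ := by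
  refine comm_le (hX.le fun B hB h2 => ?_) (normalizer_commutator_ge_right _ _) (h.comm hA)
  obtain ⟨x, hx, rfl⟩ := h.conj' hX hA hB h1 h2
  exact conj_le fun a ha => commutator_mem_commutator hx ha

theorem cq (hX : Sub D X) (hq : IsPGroup q (⁅X, X⁆ : Subgroup G)) (hA : A ∈ D) (h1 : A ≤ X)
    {x : G} (hx : x ∈ ⁅X, X⁆) (hn : x ∈ normalizer (A : Set G)) : x ∈ ⁅⁅X, X⁆, ⁅X, X⁆⁆ := by
  have h2 := norm_comm (h1.trans le_normalizer)
  refine GT.CopAct.commutator_inf_centralizer_le h2 (h.cop hA hq) ⟨h.comm_eq hX hA h1 hx, ?_⟩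
  exact ((GT.CopAct.inf_normalizer_eq_inf_centralizer h2 (h.inf_q hA hq)).le ⟨hx, hn⟩).2

theorem norm_gen {g : G} (hg : g ∈ normalizer (H : Set G)) :
    g ∈ normalizer (gen D H : Set G) :=
  GT.mem_normalizer_of_map_conj_le (GT.map_conj_le_iff.2 (gen_le_iff.2 fun B hB h1 =>
    GT.map_conj_le_iff.1 (le_gen (h.inv B hB g) (GT.map_conj_le_of_mem_normalizer h1 hg))))

theorem sub_conj (hX : Sub D X) (g : G) : Sub D (X ^ᶜ g) :=
  GT.map_conj_le_iff.2 (hX.le fun B hB h1 =>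
    GT.map_conj_le_iff.1 (le_gen (h.inv B hB g) (map_mono h1)))

/-- Dedekind: the members of `D` in `S A`. -/
theorem ded (hA : A ∈ D) (hn : A ≤ normalizer (S : Set G)) (hd : A ⊓ S = ⊥) :
    ⁅gen D (S ⊔ A), gen D (S ⊔ A)⁆ ≤ S ∧
      ∀ s ∈ S, ∀ a ∈ A, ⁅s, a⁆ ∈ ⁅gen D (S ⊔ A), gen D (S ⊔ A)⁆ := by
  have h1 := comm_le (gen_le (D := D) (H := S ⊔ A)) hn (h.comm hA)
  refine ⟨h1, fun s hs a ha => ?_⟩
  have hA' : A ≤ gen D (S ⊔ A) := le_gen hA le_sup_right
  have h2 : ⁅s, a⁆ ∈ gen D (S ⊔ A) := mul_mem (le_gen (h.inv A hA s)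
    (GT.map_conj_le_of_mem le_sup_right (mem_sup_left hs)) ⟨a, ha, rfl⟩) (inv_mem (hA' ha))
  obtain ⟨x, hx, b, hb, e⟩ := h.dec sub_gen hA hA' h2
  have h3 : ⁅s, a⁆ ∈ S := le_normalizer_iff_commutator_le_left.1 hn (commutator_mem_commutator hs ha)
  have : b ∈ A ⊓ S := ⟨hb, (mul_mem_cancel_left (h1 hx)).1 (e ▸ h3)⟩
  rw [hd, mem_bot] at this
  rw [← e, this, mul_one]; exact hx

theorem odd_q (hS : IsPGroup q S) : Odd (Nat.card S) := by
  have := Fact.mk h.hq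
  obtain ⟨n, hn⟩ := hS.exists_card_eq
  exact hn ▸ (h.hq.odd_of_ne_two h.q2).pow

theorem odd_sub (hX : Sub D X) (hq : IsPGroup q (⁅X, X⁆ : Subgroup G)) (hA : A ∈ D) (h1 : A ≤ X) :
    Odd (Nat.card X) := by
  have : A ⊔ ⁅X, X⁆ = X := le_antisymm (sup_le h1 (comm_self_le X))
    ((h.sub_le hX hA h1).trans (sup_comm _ _).le)
  rw [← congrArg (fun Y : Subgroup G => Nat.card Y) this, GT.PG.card_sup_of_inf_eq_bot (norm_comm (h1.trans le_normalizer)) (h.inf_q hA hq),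
    h.card A hA]
  exact (h.hp.odd_of_ne_two h.p2).mul (h.odd_q hq)

theorem ncard_pts (hA : A ∈ D) (h1 : A ≤ H) :
    {B | B ∈ D ∧ B ≤ H}.ncard = (normalizer (A : Set G)).relIndex H := by
  rw [← ncard_orb]
  congr 1
  ext B
  exact ⟨fun hB => h.conj hA hB.1 h1 hB.2, fun ⟨g, hg, e⟩ =>
    e ▸ ⟨h.inv A hA g, GT.map_conj_le_of_mem h1 hg⟩⟩

theorem odd_pts (hX : Sub D X) (hq : IsPGroup q (⁅X, X⁆ : Subgroup G)) (hA : A ∈ D) (h1 : A ≤ X) :
    Odd {B | B ∈ D ∧ B ≤ X}.ncard := by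
  rw [h.ncard_pts hA h1]
  exact (h.odd_sub hX hq hA h1).of_dvd_nat (relIndex_dvd_card _ _)

theorem fix (hX : Sub D X) (hq : IsPGroup q (⁅X, X⁆ : Subgroup G)) (hA : A ∈ D) (h1 : A ≤ X)
    {t : G} (ht : t * t ∈ center G) (hn : t ∈ normalizer (X : Set G)) :
    ∃ B ∈ D, B ≤ X ∧ t ∈ normalizer (B : Set G) := by
  obtain ⟨B, hB, e⟩ := fix_odd ht (T := {B | B ∈ D ∧ B ≤ X}) (fun B hB =>
    ⟨h.inv B hB.1 t, GT.map_conj_le_of_mem_normalizer hB.2 hn⟩) (h.odd_pts hX hq hA h1)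
  exact ⟨B, hB.1, hB.2, e⟩

theorem odd_index (hA : A ∈ D) : Odd (normalizer (A : Set G)).index := by
  classical
  rw [← relIndex_top_right, ← h.ncard_pts hA le_top]
  have hf : ∀ s : Set (Subgroup G), s.Finite := fun s => s.toFinite
  have e1 : ∀ H : Subgroup G, A ≤ H → {B | B ∈ D ∧ B ≤ H}.ncard =
      ((hf {B | B ∈ D ∧ B ≤ H}).toFinset.erase A).card + 1 := fun H hH => by
    rw [Finset.card_erase_add_one (by simp [hA, hH]), Set.ncard_eq_toFinset_card _ (hf _)]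
  rw [e1 ⊤ le_top, Finset.card_eq_sum_card_image (fun B => A ⊔ B)]
  refine Even.add_one (Finset.even_sum _ fun L hL => ?_)
  obtain ⟨B, hB, rfl⟩ := Finset.mem_image.1 hL
  simp only [Finset.mem_erase, Set.Finite.mem_toFinset, Set.mem_ofPred_eq] at hB
  have h2 := h.odd_pts ((sub_mem hA).sup (sub_mem hB.2.1)) (h.qL hA hB.2.1) hA le_sup_left
  rw [e1 _ le_sup_left, Nat.odd_add_one, Nat.not_odd_iff_even] at h2
  refine (congrArg (fun s => Even (Finset.card s)) (Finset.ext fun C => ?_)).mpr h2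
  simp only [Finset.mem_filter, Finset.mem_erase, Set.Finite.mem_toFinset, Set.mem_ofPred_eq]
  exact ⟨fun ⟨⟨h3, h4, _⟩, h5⟩ => ⟨h3, h4, h5 ▸ le_sup_right⟩, fun ⟨h3, h4, h5⟩ =>
    ⟨⟨h3, h4, le_top⟩, h.lin hA hB.2.1 hA h4 (Ne.symm h3) le_sup_left h5⟩⟩

end Hyp

end Cfsg.Agent.AFro
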