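import Mathlib
import Cfsg.Agent.AFro.A
import Cfsg.Agent.S0205
import Cfsg.Prelude.Def_Solvable

/-! The transfer argument, the prime `q`, passage to subgroups and the final step. -/

set_option autoImplicit false
set_option linter.unusedSectionVars false

namespace Cfsg.Agent.AFro

open Subgroup
open scoped commutatorElement

local notation:75 H " ^ᶜ " g:76 => Subgroup.map (MulEquiv.toMonoidHom (MulAut.conj g)) H

variable {G : Type*} [Group G] [Finite G]

theorem exists_q (hG : ¬ IsMulCommutative G) {p : ℕ} (hp : p.Prime) (hp2 : p ≠ 2)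
    {D : Set (Subgroup G)} (hDp : ∀ A ∈ D, Nat.card A = p) (hDinv : ∀ A ∈ D, ∀ g : G, A ^ᶜ g ∈ D)
    (hgen : sSup D = ⊤) {F : Type*} [Group F] [Finite F] (hF : Odd (Nat.card F))
    (hpair : ∀ A ∈ D, ∀ B ∈ D, A ≠ B → Nonempty (↥(A ⊔ B) ≃* F)) : ∃ q, Hyp p q F D := by
  obtain ⟨A, hA, B, hB, hAB⟩ : ∃ A ∈ D, ∃ B ∈ D, ¬ A ≤ centralizer (B : Set G) := by
    by_contra! h
    refine hG (GT.PG.isMulCommutative_top_iff.1 (GT.PG.isMulCommutative_iff_le_centralizer.2 ?_))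
    rw [← hgen]
    exact sSup_le fun A hA => le_centralizer_iff.1 (sSup_le fun B hB => h B hB A hA)
  have hne : A ≠ B := by
    rintro rfl
    exact hAB fun a ha b hb => comm_of hp (hDp A hA) b hb a ha
  obtain ⟨f⟩ := hpair A hA B hB hne
  have hs : Group.IsSolvable (⊤ : Subgroup ↥(A ⊔ B)) := by
    have := S0205.result (G := ↥(A ⊔ B)) (by rwa [Nat.card_congr f.toEquiv])
    infer_instance
  have hnc : ¬ A ⊔ B ≤ centralizer ((A ⊔ B : Subgroup G) : Set G) := fun h =>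
    hAB (le_sup_left.trans (h.trans (centralizer_le (show B ≤ A ⊔ B from le_sup_right))))
  obtain ⟨r, hr, M₀, hM0, -, hM1, hM2, -⟩ := exists_M (⊤ : Subgroup ↥(A ⊔ B)) hs fun h =>
    hnc fun x hx y hy => congrArg Subtype.val (mem_center_iff.1 (h (mem_top ⟨x, hx⟩)) ⟨y, hy⟩)
  obtain ⟨L, hL⟩ : ∃ L, L = A ⊔ B := ⟨_, rfl⟩
  let M := M₀.map (A ⊔ B).subtype
  have hM : IsPGroup r M := hM1.map _
  have hML : M ≤ A ⊔ B := map_subtype_le _
  have hLM : A ⊔ B ≤ normalizer (M : Set G) := (GT.normal_iff_le_normalizer_map_subtype M₀).1 hM0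
  obtain ⟨C, hC, hCL, hMC⟩ : ∃ C ∈ D, C ≤ A ⊔ B ∧ ¬ M ≤ centralizer (C : Set G) := by
    by_contra! h
    refine hM2 fun x hx => mem_center_iff.2 fun y => Subtype.ext ?_
    have : M ≤ centralizer ((A ⊔ B : Subgroup G) : Set G) := by
      rw [GT.centralizer_sup]; exact le_inf (h A hA le_sup_left) (h B hB le_sup_right)
    exact this ⟨x, hx, rfl⟩ y y.2
  obtain ⟨m, hm, hmC⟩ : ∃ m ∈ M, m ∉ normalizer (C : Set G) := by
    by_contra! h
    exact hMC (cent_of_norm hp (hDp C hC) hr hM h (hCL.trans hLM))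
  have hne' : C ≠ C ^ᶜ m := fun e => hmC (GT.map_conj_eq_self_iff.1 e.symm)
  have hCm := GT.map_conj_le_of_mem hCL (hML hm)
  have e1 : C ⊔ C ^ᶜ m = A ⊔ B := by
    obtain ⟨f'⟩ := hpair C hC _ (hDinv C hC m) hne'
    exact eq_of_le_of_card_ge (sup_le hCL hCm)
      (by rw [Nat.card_congr f.toEquiv, Nat.card_congr f'.toEquiv])
  have e2 : A ⊔ B ≤ M ⊔ C :=
    e1.ge.trans (sup_le le_sup_right (GT.map_conj_le_of_mem le_sup_right (mem_sup_left hm)))
  have e3 := comm_le e2 (hCL.trans hLM) (comm_of hp (hDp C hC))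
  obtain ⟨f1⟩ := comm_equiv f
  have hn : (⁅A ⊔ B, A ⊔ B⁆ : Subgroup G) ≠ ⊥ := fun h =>
    hnc (commutator_eq_bot_iff_le_centralizer.1 h)
  have hq := hM.to_le e3
  have := Fact.mk hr
  refine ⟨r, hp, hr, hp2, ?_, ?_, hDp, hDinv, hpair, hq.of_equiv f1, fun h => hn (card_eq_one.1 ?_)⟩
  · rintro rfl
    have h1 := hq.card_eq_or_dvd.resolve_left fun h => hn (card_eq_one.1 h)
    rw [Nat.card_congr f1.toEquiv] at h1
    exact Nat.not_even_iff_odd.2 hF (even_iff_two_dvd.2 (h1.trans (card_subgroup_dvd_card _)))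
  · rintro rfl
    have hP : IsPGroup p (A ⊔ B : Subgroup G) := (GT.PG.isPGroup_sup_of_le_normalizer
      (IsPGroup.of_card (n := 1) (by rw [hDp C hC, pow_one])) hM (hCL.trans hLM)).to_le
      (e2.trans (sup_comm _ _).le)
    have := hP.isNilpotent
    rcases eq_top_or_exists_le_coatom (C.subgroupOf (A ⊔ B)) with h | ⟨N, hN, h⟩
    · exact hne' (eq_of_le_of_card_ge (hCm.trans (subgroupOf_eq_top.1 h))
        (by rw [GT.card_map_conj])).symm
    have hNn := NormalizerCondition.normal_of_coatom N Group.normalizerCondition_of_isNilpotent hN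
    have h1 : C ≤ N.map (A ⊔ B).subtype := fun c hc => ⟨⟨c, hCL hc⟩, h hc, rfl⟩
    have h2 := e1.ge.trans (sup_le h1 (GT.map_conj_le_of_mem_normalizer h1
      ((GT.normal_iff_le_normalizer_map_subtype N).1 hNn (hML hm))))
    refine hN.1 (eq_top_iff.2 fun x _ => ?_)
    obtain ⟨y, hy, e⟩ := h2 x.2
    exact (Subtype.ext e : y = x) ▸ hy
  · rw [Nat.card_congr f1.toEquiv, h, card_bot]

namespace Hyp
variable {p q : ℕ} {F : Type*} [Group F] {D : Set (Subgroup G)} (h : Hyp p q F D)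
variable {A B C E X S H : Subgroup G}
include h

theorem same_exp (hA : A ∈ D) (hB : B ∈ D) {s : G} (h1 : s ∈ normalizer (A : Set G))
    (h2 : s ∈ normalizer (B : Set G)) {k : ℤ} (hk : ∀ a ∈ A, s * a * s⁻¹ = a ^ k) :
    ∀ b ∈ B, s * b * s⁻¹ = b ^ k := by
  obtain ⟨x, hx, rfl⟩ := h.conj' ((sub_mem hA).sup (sub_mem hB)) hA hB le_sup_left le_sup_right
  rintro _ ⟨a, ha, rfl⟩
  have hs := mem_norm_comm (GT.PG.le_normalizer_sup (zpowers_le.2 h1) (zpowers_le.2 h2)
    (mem_zpowers s))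
  have hA' := norm_comm (le_sup_left.trans (le_normalizer (H := A ⊔ A ^ᶜ x)))
  have h3 : s * (x * a * x⁻¹) * s⁻¹ * ((x * a * x⁻¹) ^ k)⁻¹ ∈ (A ^ᶜ x) ⊓ ⁅A ⊔ A ^ᶜ x, A ⊔ A ^ᶜ x⁆ := by
    have h5 : x * a * x⁻¹ ∈ A ^ᶜ x := ⟨a, ha, rfl⟩
    refine mem_inf.2 ⟨mul_mem (GT.conj_mem_of_mem_normalizer h2 h5) (inv_mem (zpow_mem h5 k)), ?_⟩
    have : s * (x * a * x⁻¹) * s⁻¹ * ((x * a * x⁻¹) ^ k)⁻¹ =
        s * x * s⁻¹ * (a ^ k * ((s * x * s⁻¹)⁻¹ * x) * (a ^ k)⁻¹) * x⁻¹ := by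
      rw [conj_zpow, ← hk a ha]; group
    rw [this]
    have h4 := GT.conj_mem_of_mem_normalizer hs hx
    exact mul_mem (mul_mem h4 (GT.conj_mem_of_mem_normalizer (hA' (zpow_mem ha k))
      (mul_mem (inv_mem h4) hx))) (inv_mem hx)
  rw [h.inf_q hB (h.qL hA hB), mem_bot, mul_inv_eq_one] at h3
  exact h3

theorem ex_exp (hA : A ∈ D) {s : G} (h1 : s ∈ normalizer (A : Set G)) :
    ∃ k : ℤ, ∀ a ∈ A, s * a * s⁻¹ = a ^ k := by
  obtain ⟨a, ha, ha1⟩ := h.ex hA
  obtain ⟨k, hk⟩ := (h.zp hA ha ha1).ge (GT.conj_mem_of_mem_normalizer h1 ha)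
  refine ⟨k, fun b hb => ?_⟩
  obtain ⟨i, rfl⟩ := (h.zp hA ha ha1).ge hb
  simp only at hk ⊢
  rw [← conj_zpow, ← hk, ← zpow_mul, ← zpow_mul, mul_comm]

theorem cent_of_cent (hA : A ∈ D) (hB : B ∈ D) {s : G} (h1 : s ∈ centralizer (A : Set G))
    (h2 : s ∈ normalizer (B : Set G)) : s ∈ centralizer (B : Set G) := fun b hb => by
  have := h.same_exp hA hB (centralizer_le_normalizer _ h1) h2 (k := 1)
    (fun a ha => by rw [← h1 a ha]; simp) b hb
  rw [zpow_one, mul_inv_eq_iff_eq_mul] at this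
  exact this.symm

theorem pow_cent (hgen : sSup D = ⊤) (hA : A ∈ D) {g : G} (hg : g ∈ normalizer (A : Set G)) :
    g ^ (normalizer (A : Set G)).index ∈ centralizer (A : Set G) := by
  classical
  have := Fact.mk h.hp
  have hc : IsCyclic A := isCyclic_of_prime_card (h.card A hA)
  let ϕ := (hc.mulAutMulEquiv A).toMonoidHom.comp A.normalizerMonoidHom
  have h1 : (MonoidHom.transfer ϕ).ker = ⊤ := by
    rw [eq_top_iff, ← hgen]
    refine sSup_le fun B hB b hb => GT.CopAct.eq_one_of_pow_eq_one_of_coprime (n := p) ?_ ?_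
    · rw [← Nat.card_congr (hc.mulAutMulEquiv A).toEquiv, hc.card_mulAut, h.card A hA,
        Nat.totient_prime h.hp]
      exact (Nat.coprime_self_sub_right h.hp.one_le).2 (Nat.coprime_one_right p)
    · rw [← map_pow, ← h.card B hB]
      exact (congrArg _ (congrArg Subtype.val (pow_card_eq_one' (x := (⟨b, hb⟩ : B))))).trans
        (map_one _)
  have h2 : MonoidHom.transfer ϕ g = 1 := h1.ge (mem_top g)
  have := Fintype.ofFinite (Quotient (MulAction.orbitRel (zpowers g) (G ⧸ normalizer (A : Set G))))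
  rw [MonoidHom.transfer_eq_prod_quotient_orbitRel_zpowers_quot,
    Finset.prod_congr rfl (g := fun c => ϕ ⟨g, hg⟩ ^ Function.minimalPeriod (g • ·) c.out),
    Finset.prod_pow_eq_pow_sum, ← index_eq_sum_minimalPeriod, ← map_pow] at h2
  · have h3 := (hc.mulAutMulEquiv A).map_eq_one_iff.1 h2
    intro a ha
    have := congrArg Subtype.val (DFunLike.congr_fun h3 ⟨a, ha⟩)
    exact (mul_inv_eq_iff_eq_mul.1 this).symm
  intro c _
  rw [← map_pow]
  refine congrArg (hc.mulAutMulEquiv A) (MulEquiv.ext fun a => Subtype.ext ?_)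
  have h4 := QuotientGroup.out_conj_pow_minimalPeriod_mem _ g c.out
  show c.out.out⁻¹ * g ^ _ * c.out.out * a * (c.out.out⁻¹ * g ^ _ * c.out.out)⁻¹ =
    g ^ _ * a * (g ^ _)⁻¹
  generalize c.out.out = y at h4
  have h5 := pow_mem hg (Function.minimalPeriod (g • ·) c.out)
  generalize g ^ _ = s at h4 h5
  obtain ⟨k, hk⟩ := h.ex_exp hA h5
  have := h.same_exp hA (h.inv A hA y) h5 (by rwa [GT.normalizer_map_conj, GT.mem_map_conj]) hk
    (y * a * y⁻¹) ⟨a, a.2, rfl⟩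
  rw [conj_zpow, ← hk a a.2] at this
  calc _ = y⁻¹ * (s * (y * a * y⁻¹) * s⁻¹) * y := by group
    _ = _ := by rw [this]; group

theorem cent_of_sq (hgen : sSup D = ⊤) (hA : A ∈ D) {g : G} (hg : g ∈ normalizer (A : Set G))
    (h2 : g * g ∈ centralizer (A : Set G)) : g ∈ centralizer (A : Set G) := by
  obtain ⟨k, hk⟩ := h.odd_index hA
  have := h.pow_cent hgen hA hg
  rwa [hk, pow_succ, pow_mul, sq, mul_mem_cancel_left (pow_mem h2 k)] at this

theorem not_inv (hgen : sSup D = ⊤) (hA : A ∈ D) {a : G} (ha : a ∈ A) (h1 : a ≠ 1) (g : G) :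
    g * a * g⁻¹ ≠ a⁻¹ := fun e => by
  have hz := h.zp hA ha h1
  have h2 := h.cent_of_sq hgen hA (g := g) (GT.map_conj_eq_self_iff.1 (by
    rw [← hz, GT.map_conj_zpowers, e, zpowers_inv])) (by
    rw [← hz, GT.centralizer_zpowers, mem_centralizer_singleton_iff, ← mul_inv_eq_iff_eq_mul,
      show g * g * a * (g * g)⁻¹ = g * (g * a * g⁻¹) * g⁻¹ by group, e,
      show g * a⁻¹ * g⁻¹ = (g * a * g⁻¹)⁻¹ by group, e, inv_inv])
  rw [← h2 a ha, mul_inv_cancel_right, eq_inv_iff_mul_eq_one, ← sq] at e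
  exact h.p2 ((Nat.prime_dvd_prime_iff_eq h.hp Nat.prime_two).1
    (h.ord hA ha h1 ▸ orderOf_dvd_of_pow_eq_one e))

theorem sub_hyp (X : Subgroup G) : Hyp p q F {B : Subgroup X | B.map X.subtype ∈ D} where
  hp := h.hp
  hq := h.hq
  p2 := h.p2
  q2 := h.q2
  pq := h.pq
  card B hB := (card_map_of_injective X.subtype_injective).symm.trans (h.card _ hB)
  inv B hB g := by
    show _ ∈ D
    rw [GT.map_conj_map_subtype]; exact h.inv _ hB g
  pair A hA B hB e := by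
    obtain ⟨f⟩ := h.pair _ hA _ hB fun e' => e (map_injective X.subtype_injective e')
    rw [← Subgroup.map_sup] at f
    exact ⟨((A ⊔ B).equivMapOfInjective _ X.subtype_injective).trans f⟩
  qF := h.qF
  nab := h.nab

omit h in
theorem sub_sSup (hX : Sub D X) : sSup {B : Subgroup X | B.map X.subtype ∈ D} = ⊤ := by
  refine map_injective X.subtype_injective (le_antisymm (map_mono le_top) ?_)
  refine (map_subtype_le _).trans (hX.le fun B hB h1 => ?_)
  rw [← map_subgroupOf_eq_of_le h1]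
  exact map_mono (le_sSup (by rwa [Set.mem_ofPred_eq, map_subgroupOf_eq_of_le h1]))

theorem not_le_center (hG : ¬ IsMulCommutative G) (hgen : sSup D = ⊤) (hA : A ∈ D) :
    ¬ A ≤ center G := fun h1 => hG (by
  have : A = ⊤ := eq_top_iff.2 (hgen.ge.trans (sSup_le fun B hB =>
    (h.eq_of_cent hB hA (h1.trans (center_le_centralizer _))).le))
  exact ⟨⟨fun a b => (mem_center_iff.1 (h1 (this.ge (mem_top b))) a)⟩⟩)

/-- An element normalizing `A` modulo the centre normalizes `A`. -/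
theorem norm_of_mod (hA : A ∈ D) {g : G} (hg : A ^ᶜ g ≤ A ⊔ center G) :
    g ∈ normalizer (A : Set G) :=
  GT.map_conj_eq_self_iff.1 (h.eq_of_cent hA (h.inv A hA g) (hg.trans (sup_le
    (fun a ha b hb => h.comm hA b hb a ha) (center_le_centralizer _)))).symm

theorem frob (hG : ¬ IsMulCommutative G) (hgen : sSup D = ⊤) (hq : IsPGroup q (commutator G))
    (hc : ∀ A ∈ D, ∀ x ∈ commutator G, x ∈ normalizer (A : Set G) → x ∈ center G) :
    Odd (Nat.card (G ⧸ center G)) ∧ ∃ H : Subgroup (G ⧸ center G), IsFrobeniusComplement H := by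
  obtain ⟨A, hA⟩ : ∃ A, A ∈ D := by
    by_contra! h1
    have : (⊤ : Subgroup G) ≤ ⊥ := hgen.ge.trans (sSup_le fun B hB => absurd hB (h1 B))
    exact hG ⟨⟨fun a b => by rw [mem_bot.1 (this (mem_top a)), one_mul, mul_one]⟩⟩
  refine ⟨(h.odd_sub (sub_top hgen) hq hA le_top).of_dvd_nat
    (by rw [card_top]; exact card_quotient_dvd_card _), A.map (QuotientGroup.mk' _), ?_, ?_, ?_⟩
  · exact fun e => h.not_le_center hG hgen hA (GT.map_mk'_eq_bot_iff.1 e)
  · intro e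
    have e := GT.map_mk'_eq_top_iff.1 e
    refine h.not_le_center hG hgen hA ?_
    rw [← GT.centralizer_top, ← e, GT.centralizer_sup]
    exact le_inf (fun a ha b hb => h.comm hA b hb a ha)
      (le_centralizer_iff.1 (center_le_centralizer _))
  · intro g hg
    obtain ⟨g, rfl⟩ := QuotientGroup.mk'_surjective _ g
    by_contra e
    rw [GT.conj_smul_eq_map_conj, ← GT.map_map_conj] at e
    obtain ⟨⟨_, ⟨a, ha, rfl⟩, b, hb, e1⟩, e2⟩ := ne_bot_iff_exists_ne_one.1 e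
    have hb1 : b ≠ 1 := by
      rintro rfl
      exact e2 (Subtype.ext (e1.symm.trans (map_one _)))
    have h1 : g ∈ normalizer (A : Set G) := h.norm_of_mod hA (by
      rw [← h.zp (h.inv A hA g) hb hb1, zpowers_le, ← GT.comap_map_mk']
      exact ⟨a, ha, e1.symm⟩)
    obtain ⟨x, hx, c, hc', rfl⟩ := h.dec (sub_top hgen) hA le_top (mem_top g)
    refine hg ⟨c, hc', ?_⟩
    rw [map_mul, show QuotientGroup.mk' _ x = 1 from (QuotientGroup.eq_one_iff (x := x)).2
      (hc A hA x hx ((mul_mem_cancel_right (le_normalizer hc')).1 h1)), one_mul]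

end Hyp

end Cfsg.Agent.AFro
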