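import Mathlib
import Cfsg.Agent.AFro.A

/-! A module lemma: projections onto the commutator spaces of the members of `D`. -/

set_option autoImplicit false
set_option linter.unusedSectionVars false

namespace Cfsg.Agent.AFro

open Subgroup Finset

local notation:75 H " ^ᶜ " g:76 => Subgroup.map (MulEquiv.toMonoidHom (MulAut.conj g)) H

variable {G : Type*} [Group G] [Fintype G] {V W : Type*} [AddCommGroup V] [AddCommGroup W]
  [DistribMulAction G V]

open Classical in
/-- The sum of the elements of `B`. -/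
noncomputable def tr (V : Type*) [AddCommGroup V] [DistribMulAction G V] (B : Subgroup G) :
    V →+ V := ∑ y ∈ univ.filter (· ∈ B), DistribSMul.toAddMonoidHom V y

open Classical in
theorem tr_apply (B : Subgroup G) (v : V) : tr V B v = ∑ y ∈ univ.filter (· ∈ B), y • v := by
  simp [tr]

theorem tr_conj (B : Subgroup G) (g : G) (v : V) : tr V (B ^ᶜ g) (g • v) = g • tr V B v := by
  classical
  rw [tr_apply, tr_apply, smul_sum]
  refine sum_nbij' (fun y => g⁻¹ * y * g) (fun y => g * y * g⁻¹) (fun y hy => ?_) (fun y hy => ?_)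
    (fun y _ => by group) (fun y _ => by group) (fun y _ => by simp [smul_smul, mul_assoc])
  · exact mem_filter.2 ⟨mem_univ _, GT.mem_map_conj.1 (mem_filter.1 hy).2⟩
  · exact mem_filter.2 ⟨mem_univ _, GT.conj_mem_map_conj.2 (mem_filter.1 hy).2⟩

theorem tr_smul {B : Subgroup G} {b : G} (hb : b ∈ B) (v : V) : tr V B (b • v) = tr V B v := by
  rw [tr_apply, tr_apply]
  refine sum_nbij' (· * b) (· * b⁻¹) (fun y hy => ?_) (fun y hy => ?_)
    (fun y _ => by group) (fun y _ => by group) (fun y _ => by simp [smul_smul])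
  · simpa [mul_mem_cancel_right hb] using hy
  · simpa [mul_mem_cancel_right (inv_mem hb)] using hy

theorem smul_tr {B : Subgroup G} {b : G} (hb : b ∈ B) (v : V) : b • tr V B v = tr V B v := by
  rw [← tr_conj, GT.map_conj_eq_of_mem hb, tr_smul hb]

open Classical in
theorem card_fil (B : Subgroup G) : (univ.filter (· ∈ B)).card = Nat.card B := by
  rw [Nat.card_eq_fintype_card, Fintype.card_subtype]

theorem tr_fix {B : Subgroup G} {z : V} (hz : ∀ b ∈ B, b • z = z) : tr V B z = Nat.card B • z := by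
  rw [tr_apply, sum_congr rfl fun y hy => hz y (by simpa using hy), sum_const, card_fil]

theorem lemH {D : Set (Subgroup G)} {p : ℕ} (hp : p.Prime) (hp2 : p ≠ 2)
    (hc : ∀ A ∈ D, Nat.card A = p) (hinv : ∀ A ∈ D, ∀ g : G, A ^ᶜ g ∈ D) {p' : ℕ}
    (hp' : ∀ v : V, p' • p • v = v) (β : V →+ V →+ W)
    (hβ : ∀ (g : G) v w, β (g • v) (g • w) = β v w) (nd : ∀ u, (∀ v, β v u = 0) → u = 0)
    (h0 : ∀ z : V, (∀ C ∈ D, ∀ c ∈ C, c • z = z) → z = 0)
    (hU : ∀ A ∈ D, ∀ B ∈ D, ∃ U : AddSubgroup V, (∀ y ∈ A, ∀ v, y • v - v ∈ U) ∧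
      (∀ y ∈ B, ∀ v, y • v - v ∈ U) ∧ (∀ z ∈ U, (∀ b ∈ B, b • z = z) → ∀ a ∈ A, a • z = z) ∧
      ∀ a ∈ A, ∃ b ∈ B, ∀ u ∈ U, ∀ c ∈ B, c • (a • u - b • u) = a • u - b • u)
    {A : Subgroup G} (hA : A ∈ D) {z : V} (hz : ∀ a ∈ A, a • z = z) : z = 0 := by
  classical
  have hW : ∀ v w, p • β v w = 0 → β v w = 0 := fun v w e => by
    rw [← hp' w, map_nsmul, map_nsmul, e, smul_zero]
  let π : Subgroup G → V →+ V := fun B => AddMonoidHom.id V - p' • tr V B
  have πa : ∀ B v, π B v = v - p' • tr V B v := fun B v => rfl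
  have πz : ∀ B ∈ D, ∀ z : V, (∀ b ∈ B, b • z = z) → π B z = 0 := fun B hB z hz => by
    rw [πa, tr_fix hz, hc B hB, hp', sub_self]
  have Pπ : ∀ B ∈ D, ∀ v, tr V B (π B v) = 0 := fun B hB v => by
    rw [πa, map_sub, map_nsmul, tr_fix fun b hb => smul_tr hb v, hc B hB, hp', sub_self]
  have πv : ∀ B v, tr V B v = 0 → π B v = v := fun B v hv => by rw [πa, hv, smul_zero, sub_zero]
  have πs : ∀ B, ∀ b ∈ B, ∀ v, π B (b • v) = b • π B v := fun B b hb v => by
    rw [πa, πa, tr_smul hb, smul_sub, smul_comm b, smul_tr hb]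
  have δB : ∀ B v, ∀ b ∈ B, b • (v - π B v) = v - π B v := fun B v b hb => by
    rw [πa, sub_sub_cancel, smul_comm b, smul_tr hb]
  have o1 : ∀ B ∈ D, ∀ z w : V, (∀ b ∈ B, b • z = z) → tr V B w = 0 → β z w = 0 :=
    fun B hB z w hz hw => hW _ _ (by
      rw [← hc B hB, ← card_fil, ← sum_const, ← map_zero (β z), ← hw, tr_apply, map_sum]
      exact sum_congr rfl fun y hy => by rw [← hβ y, hz y (by simpa using hy)])
  have o2 : ∀ B ∈ D, ∀ z w : V, (∀ b ∈ B, b • z = z) → tr V B w = 0 → β w z = 0 :=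
    fun B hB z w hz hw => hW _ _ (by
      rw [← hc B hB, ← card_fil, ← sum_const, ← map_zero (β.flip z), ← hw, tr_apply, map_sum]
      exact sum_congr rfl fun y hy => by
        rw [← hβ y, hz y (by simpa using hy), AddMonoidHom.flip_apply])
  have b1 : ∀ B ∈ D, ∀ v w : V, tr V B w = 0 → β (π B v) w = β v w := fun B hB v w hw => by
    have := o1 B hB _ w (δB B v) hw
    rw [map_sub, AddMonoidHom.sub_apply, sub_eq_zero] at this
    exact this.symm
  have nd' : ∀ B ∈ D, ∀ u, tr V B u = 0 → (∀ v, tr V B v = 0 → β v u = 0) → u = 0 :=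
    fun B hB u hu h => nd u fun v => by rw [← b1 B hB v u hu, h _ (Pπ B hB v)]
  have mU : ∀ A ∈ D, ∀ U : AddSubgroup V, (∀ y ∈ A, ∀ v, y • v - v ∈ U) → ∀ v, tr V A v = 0 →
      v ∈ U := fun A hA U h v hv => by
    have : ∑ y ∈ univ.filter (· ∈ A), (y • v - v) ∈ U :=
      U.sum_mem fun y hy => h y (by simpa using hy) v
    rw [sum_sub_distrib, ← tr_apply, hv, sum_const, card_fil, hc A hA, zero_sub, neg_mem_iff] at this
    exact hp' v ▸ U.nsmul_mem this p'
  have δA : ∀ A ∈ D, ∀ B ∈ D, ∀ v, tr V A v = 0 → ∀ a ∈ A, a • (v - π B v) = v - π B v :=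
    fun A hA B hB v hv => by
      obtain ⟨U, h1, h2, h3, -⟩ := hU A hA B hB
      refine h3 _ ?_ (δB B v)
      rw [πa, sub_sub_cancel, tr_apply]
      refine U.nsmul_mem (U.sum_mem fun y hy => ?_) _
      simpa using U.add_mem (h2 y (by simpa using hy) v) (mU A hA U h1 v hv)
  have ππ : ∀ A ∈ D, ∀ B ∈ D, ∀ v, tr V A v = 0 → π A (π B v) = v := fun A hA B hB v hv => by
    have := πz A hA _ (δA A hA B hB v hv)
    rw [map_sub, sub_eq_zero, πv A v hv] at this
    exact this.symm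
  have iso : ∀ A ∈ D, ∀ B ∈ D, ∀ v w, tr V A v = 0 → tr V A w = 0 → β (π B v) (π B w) = β v w :=
    fun A hA B hB v w hv hw => by
      have := o2 A hA _ v (δA A hA B hB w hw) hv
      rw [map_sub, sub_eq_zero] at this
      rw [b1 B hB _ _ (Pπ B hB w), this]
  have itw : ∀ A ∈ D, ∀ B ∈ D, ∀ a ∈ A, ∃ b ∈ B, ∀ v, tr V A v = 0 → π B (a • v) = b • π B v :=
    fun A hA B hB a ha => by
      obtain ⟨U, h1, -, -, h4⟩ := hU A hA B hB
      obtain ⟨b, hb, h4⟩ := h4 a ha
      refine ⟨b, hb, fun v hv => ?_⟩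
      have := πz B hB _ (h4 v (mU A hA U h1 v hv))
      rwa [map_sub, sub_eq_zero, πs B b hb] at this
  have inj : ∀ A ∈ D, ∀ y ∈ A, y ≠ 1 → ∀ u, tr V A u = 0 → y • u = u → u = 0 :=
    fun A hA y hy h1 u hu e => by
      rw [← πv A u hu]
      refine πz A hA u fun b hb => ?_
      rw [← zp_of hp (hc A hA) hy h1] at hb
      exact (zpowers_le.2 (MulAction.mem_stabilizer_iff.2 e) : _ ≤ MulAction.stabilizer G u) hb
  have main : ∀ A ∈ D, ∀ B ∈ D, ∀ C ∈ D, ∀ v, tr V A v = 0 → π A (π C (v - π B v)) = 0 := by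
    intro A hA B hB C hC
    let ν : V →+ V := (π A).comp ((π C).comp (AddMonoidHom.id V - π B))
    have νa : ∀ v, ν v = π A (π C (v - π B v)) := fun v => rfl
    have νA : ∀ v, tr V A (ν v) = 0 := fun v => Pπ A hA _
    have sA : ∀ y ∈ A, ∀ v, tr V A v = 0 → tr V A (y • v) = 0 := fun y hy v hv => by
      rw [tr_smul hy, hv]
    have s1 : ∀ y ∈ A, ∀ v, tr V A v = 0 → π A (π C (π (B ^ᶜ y) (y • v))) = y • v - ν v :=
      fun y hy v hv => by
        have : π (B ^ᶜ y) (y • v) = y • v - (v - π B v) := by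
          rw [← δA A hA B hB v hv y hy, smul_sub, sub_sub_cancel, πa, πa, tr_conj, smul_sub,
            smul_comm y]
        rw [this, map_sub, map_sub, ππ A hA C hC _ (sA y hy v hv), νa]
    have s2 : ∀ y ∈ A, ∀ v w, tr V A v = 0 → tr V A w = 0 →
        β (ν v) (ν w) = β (ν v) (y • w) + β (y • v) (ν w) := fun y hy v w hv hw => by
      have h1 := iso A hA _ (hinv B hB y) _ _ (sA y hy v hv) (sA y hy w hw)
      rw [← iso _ (hinv B hB y) C hC _ _ (Pπ _ (hinv B hB y) _) (Pπ _ (hinv B hB y) _),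
        ← iso C hC A hA _ _ (Pπ C hC _) (Pπ C hC _), s1 y hy v hv, s1 y hy w hw] at h1
      simp only [map_sub, AddMonoidHom.sub_apply] at h1
      rw [← sub_eq_zero, ← sub_eq_zero.2 h1]; abel
    have s3 : ∀ v w, tr V A v = 0 → tr V A w = 0 → β (ν v) (ν w) = 0 := fun v w hv hw => hW _ _ (by
      rw [← hc A hA, ← card_fil, ← sum_const, sum_congr rfl fun y hy =>
        s2 y (by simpa using hy) v w hv hw, sum_add_distrib, ← map_sum, ← tr_apply, hw, map_zero,
        zero_add, ← map_zero (β.flip (ν w)), ← hv, tr_apply, map_sum]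
      rfl)
    have s4 : ∀ y ∈ A, ∀ w, tr V A w = 0 → ν (y • w) = y⁻¹ • ν w := fun y hy w hw => by
      refine sub_eq_zero.1 (nd' A hA _ (by
        rw [map_sub, νA, tr_smul (inv_mem hy), νA, sub_self]) fun v hv => ?_)
      have h1 := s2 y hy v w hv hw
      have h2 := s2 1 (one_mem _) v _ hv (sA y hy w hw)
      rw [s3 v w hv hw] at h1
      rw [s3 v _ hv (sA y hy w hw), one_smul, one_smul] at h2
      rw [map_sub, ← hβ y v (y⁻¹ • ν w), smul_inv_smul, sub_eq_zero]
      exact add_left_cancel (h2.symm.trans h1)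
    obtain ⟨a, ha, ha1⟩ := gen_of hp (hc A hA)
    have ha2 : a * a ≠ 1 := fun e => hp2 ((Nat.prime_dvd_prime_iff_eq hp Nat.prime_two).1
      (ord_of hp (hc A hA) ha ha1 ▸ orderOf_dvd_of_pow_eq_one (by rw [sq, e])))
    have inj2 : ∀ u, tr V A u = 0 → a • u - a⁻¹ • u = 0 → u = 0 := fun u hu e =>
      inj A hA _ (mul_mem ha ha) ha2 u hu (by rw [mul_smul, sub_eq_zero.1 e, smul_inv_smul])
    obtain ⟨b, hb, i1⟩ := itw A hA B hB a ha
    obtain ⟨c, hc', i2⟩ := itw B hB C hC b hb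
    obtain ⟨a', ha', i3⟩ := itw C hC A hA c hc'
    have s5 : ∀ v, tr V A v = 0 → π A (π C (π B v)) = v - ν v := fun v hv => by
      simpa only [GT.map_conj_one, one_smul] using s1 1 (one_mem _) v hv
    have s6 : ∀ w, tr V A w = 0 → a • w - a⁻¹ • ν w = a' • (w - ν w) := fun w hw => by
      rw [← s4 a ha w hw, ← s5 _ (sA a ha w hw), i1 w hw, i2 _ (Pπ B hB _), i3 _ (Pπ C hC _),
        s5 w hw]
    intro w hw
    rw [← νa]
    by_cases e : a' = a
    · refine inj2 _ (νA w) ?_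
      have := s6 w hw
      rw [e, smul_sub, sub_right_inj] at this
      rw [this, sub_self]
    have s7 : ∀ w, tr V A w = 0 → a • w - a⁻¹ • w = a' • (w - ν w) - a⁻¹ • (w - ν w) :=
      fun w hw => by rw [← s6 w hw, smul_sub]; abel
    have cm : ∀ v : V, a⁻¹ • a' • v = a' • a⁻¹ • v := fun v => by
      rw [smul_smul, smul_smul, (comm_of hp (hc A hA) _ (inv_mem ha) _ ha').eq]
    have h1 := s7 _ (sA a ha w hw)
    rw [s4 a ha w hw, s6 w hw, cm, ← smul_sub a', ← s7 w hw, inv_smul_smul] at h1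
    have h4 : a' • (a • w - a⁻¹ • w) = a • (a • w - a⁻¹ • w) := by
      rw [← h1, smul_sub, smul_inv_smul]
    have h6 := inj A hA (a⁻¹ * a') (mul_mem (inv_mem ha) ha') (fun e' => e (inv_mul_eq_one.1 e').symm)
      (a • w - a⁻¹ • w) (by rw [map_sub, tr_smul ha, tr_smul (inv_mem ha), sub_self]) (by
        rw [mul_smul, h4, inv_smul_smul])
    rw [inj2 w hw h6, map_zero]
  have δ0 : ∀ A ∈ D, ∀ B ∈ D, ∀ v, tr V A v = 0 → tr V B v = 0 := fun A hA B hB v hv => by
    have := h0 (v - π B v) fun C hC c hc => by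
      have h1 := ππ C hC A hA _ (Pπ C hC (v - π B v))
      rw [main A hA B hB C hC v hv, map_zero] at h1
      have := δB C (v - π B v) c hc
      rwa [← h1, sub_zero] at this
    rw [sub_eq_zero.1 this]
    exact Pπ B hB v
  refine h0 z fun C hC c hc => ?_
  have h1 : π C z = 0 := nd' C hC _ (Pπ C hC z) fun v hv => by
    have := o2 C hC _ v (δB C z) hv
    rw [map_sub, o2 A hA z v hz (δ0 C hC A hA v hv), zero_sub, neg_eq_zero] at this
    exact this
  have := δB C z c hc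
  rwa [h1, sub_zero] at this

end Cfsg.Agent.AFro
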