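import Mathlib
import Cfsg.Agent.AFro.B
import Cfsg.Agent.AFro.H
import Cfsg.Agent.GT.Cores

/-! The nonabelian case: structure of `q`-solvable subspaces, and normal subgroups of a minimal
counterexample. -/

set_option autoImplicit false
set_option linter.unusedSectionVars false

namespace Cfsg.Agent.AFro

open Subgroup
open scoped commutatorElement

local notation:75 H " ^ᶜ " g:76 => Subgroup.map (MulEquiv.toMonoidHom (MulAut.conj g)) H

variable {G : Type*} [Group G] [Finite G]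

theorem comm_mul_left {x y z : G} (h : ⁅y, z⁆ ∈ center G) : ⁅x * y, z⁆ = ⁅x, z⁆ * ⁅y, z⁆ := by
  have := mem_center_iff.1 h
  calc ⁅x * y, z⁆ = x * ⁅y, z⁆ * (z * x⁻¹ * z⁻¹) := by simp only [commutatorElement_def]; group
    _ = x * ((z * x⁻¹ * z⁻¹) * ⁅y, z⁆) := by rw [mul_assoc, this]
    _ = _ := by simp only [commutatorElement_def]; group

theorem comm_mul_right {x y z : G} (h : ⁅x, z⁆ ∈ center G) : ⁅x, y * z⁆ = ⁅x, y⁆ * ⁅x, z⁆ := by
  have := mem_center_iff.1 h
  calc ⁅x, y * z⁆ = ⁅x, y⁆ * (y * ⁅x, z⁆) * y⁻¹ := by simp only [commutatorElement_def]; group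
    _ = _ := by rw [this]; group

theorem mk_conj_iff {g n : G} : QuotientGroup.mk' (center G) g * QuotientGroup.mk' _ n *
    (QuotientGroup.mk' _ g)⁻¹ = QuotientGroup.mk' _ n ↔ ⁅g, n⁆ ∈ center G := by
  rw [← mul_inv_eq_one, ← QuotientGroup.eq_one_iff]; rfl

namespace Hyp
variable {p q : ℕ} {F : Type*} [Group F] {D : Set (Subgroup G)} (h : Hyp p q F D)
variable {A B C X S N : Subgroup G}
include h

theorem abel (hna : ¬ IsMulCommutative (commutator F)) (hA : A ∈ D) (hS : IsPGroup q S)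
    (hn : A ≤ normalizer (S : Set G)) (hab : S ≤ centralizer (S : Set G)) :
    S ≤ centralizer (A : Set G) := by
  refine cent_of_norm h.hp (h.card A hA) h.hq hS (fun x hx => ?_) hn
  by_contra hx'
  have hne : A ≠ A ^ᶜ x := fun e => hx' (GT.map_conj_eq_self_iff.1 e.symm)
  obtain ⟨f⟩ := h.pair A hA _ (h.inv A hA x) hne
  obtain ⟨f⟩ := comm_equiv f
  have h1 : ⁅A ⊔ A ^ᶜ x, A ⊔ A ^ᶜ x⁆ ≤ S := comm_le (sup_le le_sup_right
    (GT.map_conj_le_of_mem le_sup_right (mem_sup_left hx))) hn (h.comm hA)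
  refine hna ⟨⟨fun a b => f.symm.injective ?_⟩⟩
  rw [map_mul, map_mul]
  exact Subtype.ext (hab (h1 (f.symm b).2) _ (h1 (f.symm a).2))

theorem abel' (hna : ¬ IsMulCommutative (commutator F)) (hX : Sub D X) (hS : IsPGroup q S)
    (hn : X ≤ normalizer (S : Set G)) (hab : S ≤ centralizer (S : Set G)) :
    S ≤ centralizer (X : Set G) :=
  le_centralizer_iff.1 (hX.le fun _ hB h1 =>
    le_centralizer_iff.1 (h.abel hna hB hS (h1.trans hn) hab))

theorem st (hna : ¬ IsMulCommutative (commutator F)) (hX : Sub D X)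
    (hq : IsPGroup q (⁅X, X⁆ : Subgroup G)) : ⁅⁅X, X⁆, ⁅X, X⁆⁆ ≤ centralizer (X : Set G) := by
  have := Fact.mk h.hq
  have hn := norm_comm (le_normalizer (H := X))
  have h1 := comm_self_le X
  generalize ⁅X, X⁆ = Q at hq hn h1
  have h2 := comm_self_le Q
  refine h.abel' hna hX (hq.to_le h2) (norm_comm hn) (le_trans ?_ (GT.centralizer_anti h2))
  rw [← commutator_eq_bot_iff_le_centralizer]
  by_contra h3
  obtain ⟨W, -, ⟨w1, w2, w3⟩, hm⟩ := Finite.exists_le_minimal (p := fun W : Subgroup G =>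
    W ≤ ⁅Q, Q⁆ ∧ X ≤ normalizer (W : Set G) ∧ ⁅W, Q⁆ ≠ ⊥) (a := ⁅Q, Q⁆) ⟨le_rfl, norm_comm hn, h3⟩
  obtain ⟨n, hn'⟩ := GT.PG.exists_iterCommutator_eq_bot_of_isPGroup (hq.to_le (w1.trans h2)) hq
    (h1.trans w2)
  have h4 := GT.PG.commutator_lt_of_iterCommutator hn' (h1.trans w2) (by rintro rfl; simp at w3)
  have h5 : ⁅⁅W, Q⁆, Q⁆ = ⊥ := by
    by_contra h5
    exact h4.not_ge (hm ⟨h4.le.trans w1, GT.le_normalizer_commutator w2 hn, h5⟩ h4.le)
  have h6 := commutator_commutator_eq_bot_of_rotate (H₁ := Q) (H₂ := Q) (H₃ := W)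
    (by rwa [commutator_comm Q W]) h5
  exact w3 (commutator_eq_bot_iff_le_centralizer.2 ((h.abel' hna hX (hq.to_le (w1.trans h2)) w2
    (w1.trans (commutator_eq_bot_iff_le_centralizer.1 h6))).trans (GT.centralizer_anti h1)))

theorem le_center (hgen : sSup D = ⊤) (h1 : ∀ A ∈ D, S ≤ centralizer (A : Set G)) :
    S ≤ center G := by
  rw [← GT.centralizer_top, le_centralizer_iff, ← hgen]
  exact sSup_le fun A hA => le_centralizer_iff.1 (h1 A hA)

theorem norm_of_comm (hA : A ∈ D) {n : G} (hn : ∀ a ∈ A, ⁅a, n⁆ ∈ center G) :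
    n ∈ normalizer (A : Set G) := by
  refine h.norm_of_mod hA ((conj_le fun a ha => ?_).trans (sup_comm _ _).le)
  rw [← commutatorElement_inv]; exact inv_mem (hn a ha)

theorem pairX [N.Normal] (hN : IsPGroup q N) (hA : A ∈ D) (hB : B ∈ D) :
    ∃ X, Sub D X ∧ IsPGroup q (⁅X, X⁆ : Subgroup G) ∧ A ≤ X ∧ B ≤ X ∧
      (∀ n ∈ N, ∀ a ∈ A, ⁅n, a⁆ ∈ ⁅X, X⁆) ∧ ∀ n ∈ N, ∀ b ∈ B, ⁅n, b⁆ ∈ ⁅X, X⁆ := by
  have hL := (sub_mem hA).sup (sub_mem hB)
  have hS : IsPGroup q (N ⊔ ⁅A ⊔ B, A ⊔ B⁆ : Subgroup G) := hN.to_sup_of_normal_left (h.qL hA hB)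
  have hn : A ⊔ B ≤ normalizer ((N ⊔ ⁅A ⊔ B, A ⊔ B⁆ : Subgroup G) : Set G) :=
    GT.PG.le_normalizer_sup le_normalizer_of_normal (norm_comm le_normalizer)
  have h1 := (h.sub_le hL hA le_sup_left).trans (sup_le_sup_right (le_sup_right (a := N)) A)
  have h2 := (h.sub_le hL hB le_sup_right).trans (sup_le_sup_right (le_sup_right (a := N)) B)
  have e : N ⊔ ⁅A ⊔ B, A ⊔ B⁆ ⊔ B = N ⊔ ⁅A ⊔ B, A ⊔ B⁆ ⊔ A :=
    le_antisymm (sup_le le_sup_left (le_sup_right.trans h1))
      (sup_le le_sup_left (le_sup_left.trans h2))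
  have d1 := h.ded hA (le_sup_left.trans hn) (h.inf_q hA hS)
  have d2 := h.ded hB (le_sup_right.trans hn) (h.inf_q hB hS)
  rw [e] at d2
  exact ⟨_, sub_gen, hS.to_le d1.1, le_gen hA le_sup_right, le_gen hB (le_sup_right.trans h1),
    fun n hn => d1.2 n (mem_sup_left hn), fun n hn => d2.2 n (mem_sup_left hn)⟩

open scoped IsMulCommutative in
theorem fix_center (hna : ¬ IsMulCommutative (commutator F)) (hgen : sSup D = ⊤) [N.Normal]
    (hN : IsPGroup q N) (hNN : ⁅N, N⁆ ≤ center G) (hA : A ∈ D) {n : G} (hn : n ∈ N)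
    (hc : n ∈ centralizer (A : Set G)) : n ∈ center G := by
  have := Fintype.ofFinite G
  let π := QuotientGroup.mk' (center G)
  let M := N.map π
  have hMn : M.Normal := GT.normal_map_mk' N
  have hM : IsMulCommutative M := le_centralizer_iff_isMulCommutative.1
    (commutator_eq_bot_iff_le_centralizer.1 (GT.commutator_le_iff_map_mk'.1 hNN))
  let : DistribMulAction G (Additive M) :=
    { smul := fun g v => Additive.ofMul ⟨π g * v.toMul * (π g)⁻¹, hMn.conj_mem _ v.toMul.2 _⟩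
      one_smul := fun v => Subtype.ext (by
        show π 1 * v.toMul * (π 1)⁻¹ = v.toMul
        simp)
      mul_smul := fun g g' v => Subtype.ext (by
        show π (g * g') * v.toMul * (π (g * g'))⁻¹ = π g * (π g' * v.toMul * (π g')⁻¹) * (π g)⁻¹
        rw [map_mul]; group)
      smul_zero := fun g => Subtype.ext (by
        show π g * 1 * (π g)⁻¹ = 1
        simp)
      smul_add := fun g v w => Subtype.ext (by
        show π g * (v.toMul * w.toMul) * (π g)⁻¹ =
          π g * v.toMul * (π g)⁻¹ * (π g * w.toMul * (π g)⁻¹)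
        group) }
  let mk : ∀ n ∈ N, Additive M := fun n hn => Additive.ofMul ⟨π n, n, hn, rfl⟩
  have sj : ∀ v : Additive M, ∃ n hn, v = mk n hn := fun v => by
    obtain ⟨n, hn, e⟩ := v.toMul.2
    exact ⟨n, hn, Subtype.ext e.symm⟩
  choose l hl hl' using sj
  have fx : ∀ (g : G) n hn, g • mk n hn = mk n hn ↔ ⁅g, n⁆ ∈ center G := fun g n hn =>
    Subtype.ext_iff.trans mk_conj_iff
  have z0 : ∀ n hn, mk n hn = 0 ↔ n ∈ center G := fun n hn =>
    Subtype.ext_iff.trans (QuotientGroup.eq_one_iff n)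
  have cN : ∀ x ∈ N, ∀ y ∈ N, ⁅x, y⁆ ∈ center G := fun x hx y hy =>
    hNN (commutator_mem_commutator hx hy)
  have lz : ∀ x hx, ∃ z ∈ center G, l (mk x hx) = x * z := fun x hx =>
    ⟨x⁻¹ * l (mk x hx), QuotientGroup.eq.1 (congrArg (fun v : Additive M => (v.toMul : G ⧸ center G))
      (hl' (mk x hx))), by group⟩
  have cz : ∀ x hx y hy, ⁅l (mk x hx), l (mk y hy)⁆ = ⁅x, y⁆ := fun x hx y hy => by
    obtain ⟨z, hz, e⟩ := lz x hx
    obtain ⟨z', hz', e'⟩ := lz y hy
    have k1 : ∀ g : G, ⁅z, g⁆ = 1 := fun g =>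
      commutatorElement_eq_one_iff_commute.2 (mem_center_iff.1 hz g).symm
    have k2 : ∀ g : G, ⁅g, z'⁆ = 1 := fun g =>
      commutatorElement_eq_one_iff_commute.2 (mem_center_iff.1 hz' g)
    rw [e, e', comm_mul_left (k1 _ ▸ one_mem _), k1, mul_one, comm_mul_right (k2 _ ▸ one_mem _), k2,
      mul_one]
  have ad : ∀ v w, v + w = mk (l v * l w) (mul_mem (hl v) (hl w)) := fun v w => by
    conv_lhs => rw [hl' v, hl' w]
    exact Subtype.ext (map_mul π _ _).symm
  let b0 : Additive M → Additive M → Additive (center G) := fun v w =>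
    Additive.ofMul ⟨⁅l v, l w⁆, cN _ (hl v) _ (hl w)⟩
  have b1 : ∀ x hx y hy, ((b0 (mk x hx) (mk y hy)).toMul : G) = ⁅x, y⁆ := cz
  let β : Additive M →+ Additive M →+ Additive (center G) := AddMonoidHom.mk'
    (fun v => AddMonoidHom.mk' (b0 v) fun w w' => Subtype.ext (by
      refine (congrArg (fun u => (u.toMul : G)) (congrArg₂ b0 (hl' v) (ad w w'))).trans ?_
      rw [b1 _ (hl v) _ (mul_mem (hl w) (hl w'))]; exact comm_mul_right (cN _ (hl v) _ (hl w'))))
    fun v v' => AddMonoidHom.ext fun w => Subtype.ext (by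
      refine (congrArg (fun u => (u.toMul : G)) (congrArg₂ b0 (ad v v') (hl' w))).trans ?_
      rw [b1 _ (mul_mem (hl v) (hl v')) _ (hl w)]; exact comm_mul_left (cN _ (hl v') _ (hl w)))
  have sm : ∀ (g : G) n hn, g • mk n hn = mk (g * n * g⁻¹) (‹N.Normal›.conj_mem n hn g) :=
    fun g n hn => rfl
  have sb : ∀ x hx y hy, mk x hx - mk y hy = mk (x * y⁻¹) (mul_mem hx (inv_mem hy)) :=
    fun x hx y hy => Subtype.ext (div_eq_mul_inv (π x) (π y))
  obtain ⟨p', -, hp'⟩ := Nat.exists_mul_mod_eq_of_coprime 1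
    ((h.card A hA ▸ h.cop hA hN).coprime_dvd_right (card_dvd_of_surjective _ (π.subgroupMap_surjective N)))
    (Nat.card_pos (α := M)).ne'
  refine (z0 n hn).1 (lemH (V := Additive M) h.hp h.p2 h.card h.inv (p' := p') (fun v => ?_) β
    (fun g v w => ?_) (fun u hu => ?_) (fun z hz => ?_) (fun A hA B hB => ?_) hA fun a ha => ?_)
  · show (v.toMul ^ p) ^ p' = v.toMul
    rw [← pow_mul, ← pow_mod_natCard, hp', pow_mod_natCard, pow_one]
  · rw [hl' v, hl' w, sm g _ (hl v), sm g _ (hl w)]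
    refine Subtype.ext ((b1 _ (‹N.Normal›.conj_mem _ (hl v) g) _
      (‹N.Normal›.conj_mem _ (hl w) g)).trans (Eq.trans ?_ (b1 _ (hl v) _ (hl w)).symm))
    rw [← conjugate_commutatorElement, mem_center_iff.1 (cN _ (hl v) _ (hl w)) g,
      mul_inv_cancel_right]
  · rw [hl' u, z0 _ (hl u)]
    refine h.le_center hgen (S := N ⊓ centralizer N) (fun A hA => h.abel hna hA
      (hN.to_le inf_le_left) le_normalizer_of_normal
      (inf_le_right.trans (GT.centralizer_anti inf_le_left))) ⟨hl u, fun m hm => ?_⟩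
    have := hu (mk m hm)
    rw [hl' u] at this
    exact commutatorElement_eq_one_iff_commute.1 
      ((b1 _ hm _ (hl u)).symm.trans (congrArg Subtype.val this))
  · rw [hl' z] at hz ⊢
    rw [z0 _ (hl z)]
    refine h.le_center hgen (fun C hC => zpowers_le.2 ?_) (mem_zpowers _)
    exact ((GT.CopAct.inf_normalizer_eq_inf_centralizer le_normalizer_of_normal
      (h.inf_q hC hN)).le ⟨hl z, h.norm_of_comm hC fun c hc => (fx _ _ (hl z)).1 (hz C hC c hc)⟩).2
  · obtain ⟨X, hX, hq, hAX, hBX, h1, h2⟩ := h.pairX hN hA hB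
    have hU : ∀ x hx, x ∈ ⁅X, X⁆ → mk x hx ∈ (((N ⊓ ⁅X, X⁆).map π).subgroupOf M).toAddSubgroup :=
      fun x hx h3 => ⟨x, ⟨hx, h3⟩, rfl⟩
    have hU' : ∀ z ∈ (((N ⊓ ⁅X, X⁆).map π).subgroupOf M).toAddSubgroup, ∃ x hx, x ∈ ⁅X, X⁆ ∧
        z = mk x hx := fun z ⟨x, hx, e⟩ => ⟨x, hx.1, hx.2, Subtype.ext e.symm⟩
    refine ⟨(((N ⊓ ⁅X, X⁆).map π).subgroupOf M).toAddSubgroup, fun y hy v => ?_, fun y hy v => ?_,
      fun z hz h3 a ha => ?_, fun a ha => ?_⟩
    · rw [hl' v, sm y _ (hl v), sb _ (‹N.Normal›.conj_mem _ (hl v) y) _ (hl v)]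
      exact hU _ (mul_mem (‹N.Normal›.conj_mem _ (hl v) y) (inv_mem (hl v)))
        (by simpa [commutatorElement_def, mul_assoc] using inv_mem (h1 _ (hl v) y hy))
    · rw [hl' v, sm y _ (hl v), sb _ (‹N.Normal›.conj_mem _ (hl v) y) _ (hl v)]
      exact hU _ (mul_mem (‹N.Normal›.conj_mem _ (hl v) y) (inv_mem (hl v)))
        (by simpa [commutatorElement_def, mul_assoc] using inv_mem (h2 _ (hl v) y hy))
    · obtain ⟨x, hx, h4, rfl⟩ := hU' z hz
      have := h.st hna hX hq (h.cq hX hq hB hBX h4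
        (h.norm_of_comm hB fun b hb => (fx _ _ hx).1 (h3 b hb))) a (hAX ha)
      rw [fx _ _ hx, commutatorElement_eq_one_iff_commute.2 this]; exact one_mem _
    · obtain ⟨x, hx, rfl⟩ := h.conj' hX hA hB hAX hBX
      refine ⟨x * a * x⁻¹, ⟨a, ha, rfl⟩, fun u hu c hc => ?_⟩
      obtain ⟨y, hy, h4, rfl⟩ := hU' u hu
      have hn := norm_comm (hAX.trans le_normalizer) ha
      have : ⁅a * y * a⁻¹, x * (a * x⁻¹ * a⁻¹)⁆ ∈ centralizer (X : Set G) := h.st hna hX hq
        (commutator_mem_commutator (GT.conj_mem_of_mem_normalizer hn h4)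
          (mul_mem hx (GT.conj_mem_of_mem_normalizer hn (inv_mem hx))))
      have k1 := ‹N.Normal›.conj_mem y hy a
      have k2 := ‹N.Normal›.conj_mem y hy (x * a * x⁻¹)
      rw [sm a y hy, sm (x * a * x⁻¹) y hy, sb _ k1 _ k2, fx _ _ (mul_mem k1 (inv_mem k2)), show a * y * a⁻¹ * (x * a * x⁻¹ * y * (x * a * x⁻¹)⁻¹)⁻¹ =
        ⁅a * y * a⁻¹, x * (a * x⁻¹ * a⁻¹)⁆ by simp only [commutatorElement_def]; group,
        commutatorElement_eq_one_iff_commute.2 (this c (hBX hc))]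
      exact one_mem _
  · rw [fx a n hn, commutatorElement_eq_one_iff_commute.2 (hc a ha)]; exact one_mem _

theorem solv (hgen : sSup D = ⊤) (hs : Group.IsSolvable (G ⧸ pCore q G)) :
    IsPGroup q (⁅(⊤ : Subgroup G), ⊤⁆ : Subgroup G) := by
  refine (GT.isPGroup_pCore q).to_le (GT.commutator_le_iff_map_mk'.2 ?_)
  rw [map_top_of_surjective _ (QuotientGroup.mk'_surjective _),
    commutator_eq_bot_iff_le_centralizer, GT.centralizer_top]
  by_contra hc
  obtain ⟨r, hr, M, hMn, -, hM, hMc, -⟩ := exists_M ⊤ inferInstance hc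
  let π := QuotientGroup.mk' (pCore q G)
  by_cases e : r = q
  · subst e
    have h1 := GT.le_pCore (hM.comap_of_ker_isPGroup π (by
      rw [QuotientGroup.ker_mk']; exact GT.isPGroup_pCore r))
    refine hMc ?_
    rw [← GT.map_comap_mk' M, GT.map_mk'_eq_bot_iff.2 h1]; exact bot_le
  refine hMc ?_
  rw [← GT.centralizer_top, le_centralizer_iff,
    ← map_top_of_surjective _ (QuotientGroup.mk'_surjective _), ← hgen, map_le_iff_le_comap]
  refine sSup_le fun A hA => map_le_iff_le_comap.1 (le_centralizer_iff.1 ?_)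
  have hc : Nat.card (A.map π) = p := by
    rw [← Nat.card_congr (GT.quotientSubgroupOfEquivMap A _).toEquiv, ← index_eq_card,
      subgroupOf_eq_bot.2 (disjoint_iff.2 (inf_comm _ A ▸ h.inf_q hA (GT.isPGroup_pCore q))),
      index_bot, h.card A hA]
  refine cent_of_norm h.hp hc hr hM (fun x hx => ?_) le_normalizer_of_normal
  obtain ⟨x, rfl⟩ := QuotientGroup.mk'_surjective _ x
  have hB := h.inv A hA x
  have h1 : ⁅A ⊔ A ^ᶜ x, A ⊔ A ^ᶜ x⁆ ≤ M.comap π := comm_le (sup_le le_sup_right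
    (GT.map_conj_le_of_mem le_sup_right (mem_sup_left hx))) le_normalizer_of_normal (h.comm hA)
  have := Fact.mk hr
  have := Fact.mk h.hq
  have h2 : ⁅A ⊔ A ^ᶜ x, A ⊔ A ^ᶜ x⁆.map π = ⊥ := by
    simpa using (IsPGroup.disjoint_of_ne r q e _ _ (hM.to_le (map_le_iff_le_comap.2 h1))
      ((h.qL hA hB).map π)).eq_bot
  refine GT.mem_normalizer_of_map_conj_le ?_
  rw [← GT.map_map_conj]
  refine (map_mono (le_sup_right.trans
    (h.sub_le ((sub_mem hA).sup (sub_mem hB)) hA le_sup_left))).trans ?_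
  rw [Subgroup.map_sup, h2, bot_sup_eq]

end Hyp

/-- A minimal counterexample. -/
structure Min (p q : ℕ) (F : Type*) [Group F] (D : Set (Subgroup G)) : Prop
    extends Hyp p q F D where
  hna : ¬ IsMulCommutative (commutator F)
  hgen : sSup D = ⊤
  ind : ∀ X, Sub D X → X ≠ ⊤ → IsPGroup q (⁅X, X⁆ : Subgroup G)
  ce : ¬ IsPGroup q (⁅(⊤ : Subgroup G), ⊤⁆ : Subgroup G)

namespace Min
variable {p q : ℕ} {F : Type*} [Group F] {D : Set (Subgroup G)} (h : Min p q F D)
variable {A B C X S N : Subgroup G}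
include h

theorem eq_top [N.Normal] (hA : A ∈ D) (h1 : A ≤ N) : N = ⊤ :=
  eq_top_iff.2 (h.hgen.ge.trans (sSup_le fun B hB => by
    obtain ⟨g, -, rfl⟩ := h.conj hA hB le_top le_top
    exact GT.map_conj_le_of_normal h1 g))

theorem lemR [N.Normal] (hA : A ∈ D) (hne : N ⊔ A ≠ ⊤) : ⁅N, ⊤⁆ ≤ pCore q G := by
  rw [commutator_comm, GT.commutator_le_iff_map_mk', commutator_eq_bot_iff_le_centralizer,
    ← h.hgen, map_le_iff_le_comap]
  refine sSup_le fun B hB => map_le_iff_le_comap.1 ?_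
  rw [← commutator_eq_bot_iff_le_centralizer, ← GT.commutator_le_iff_map_mk', commutator_comm]
  have h1 : N ⊔ B ≠ ⊤ := by
    obtain ⟨g, -, rfl⟩ := h.conj hA hB le_top le_top
    rwa [← GT.map_conj_eq_of_normal N g, ← GT.map_conj_sup, Ne, GT.map_conj_eq_top_iff]
  have h2 : B ⊓ N = ⊥ := by
    by_contra e
    exact h1 (by rw [h.eq_top (N := N) hB (le_of_inf h.hp (h.card B hB) e), top_sup_eq])
  obtain ⟨d1, d2⟩ := h.ded hB le_normalizer_of_normal h2
  refine (commutator_le.2 d2).trans ((GT.le_pCoreOf d1 (norm_comm fun n hn =>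
    h.norm_gen (le_normalizer (mem_sup_left hn))) (h.ind _ sub_gen fun e => h1 ?_)).trans
    (GT.pCoreOf_le_pCore N))
  exact eq_top_iff.2 (e.ge.trans gen_le)

theorem lemA [N.Normal] (hN : IsPGroup q N) : N ≤ center G := by
  by_contra hc
  have := Fact.mk h.hq
  obtain ⟨-, -, M, hMn, hMN, -, hMc, hMM⟩ := exists_M N (GT.CopAct.isSolvable_of_isPGroup hN) hc
  have hM := hN.to_le hMN
  clear hc hMN hN
  obtain ⟨A, hA, hAM⟩ : ∃ A ∈ D, ¬ M ≤ centralizer (A : Set G) := by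
    by_contra! e
    exact hMc (h.le_center h.hgen e)
  let K := (centralizer (M.map (QuotientGroup.mk' (center G)) : Set (G ⧸ center G))).comap
    (QuotientGroup.mk' (center G))
  have := GT.normal_map_mk' (N := center G) M
  have hK : ∀ H : Subgroup G, H ≤ K ↔ ⁅H, M⁆ ≤ center G := fun H => by
    rw [← map_le_iff_le_comap, GT.map_le_centralizer_map_iff, QuotientGroup.ker_mk']
  have h1 : ⊤ ≤ K ⊔ A := h.hgen.ge.trans (sSup_le fun B hB => by
    obtain ⟨X, hX, hq, hAX, hBX, h1, -⟩ := h.pairX hM hA hB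
    refine hBX.trans ((h.sub_le hX hA hAX).trans (sup_le_sup_right ((hK _).2 ?_) A))
    refine commutator_le.2 fun w hw n hn => ?_
    obtain ⟨x, hx, c, hc, rfl⟩ := GT.CopAct.exists_eq_commutator_mul_centralizer
      (le_normalizer_of_normal (K := A)) (h.cop hA hM)
      (.inr (GT.CopAct.isSolvable_of_isPGroup hM)) hn
    have h2 := h.fix_center h.hna h.hgen hM hMM hA hc.1 hc.2
    have h3 : ⁅w, c⁆ = 1 := commutatorElement_eq_one_iff_commute.2 (mem_center_iff.1 h2 w)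
    rw [comm_mul_right (h3 ▸ one_mem _), h3, mul_one]
    exact h.fix_center h.hna h.hgen hM hMM hA (commutator_le_right _ _
      (commutator_mem_commutator (mem_top w) (commutator_le_left _ _ hx)))
      (GT.centralizer_anti hAX (h.st h.hna hX hq
        (commutator_mem_commutator hw (commutator_le.2 h1 hx)))))
  have h2 : A ⊓ K = ⊥ := by
    by_contra e
    have := (hK A).1 (le_of_inf h.hp (h.card A hA) e)
    exact hAM (cent_of_norm h.hp (h.card A hA) h.hq hM (fun n hn => h.norm_of_comm hA fun a ha =>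
      this (commutator_mem_commutator ha hn)) le_normalizer_of_normal)
  by_cases e : centralizer (M : Set G) ⊔ A = ⊤
  · refine hAM (h.abel h.hna hA hM le_normalizer_of_normal fun n hn => ?_)
    obtain ⟨c, hc, a, ha, rfl⟩ := (GT.PG.mem_sup_of_le_normalizer le_normalizer_of_normal).1
      (e.ge (mem_top n))
    have h3 : c ∈ K := (hK _).2 (by
      rw [commutator_comm, commutator_eq_bot_iff_le_centralizer.2 (le_centralizer_iff.1 le_rfl)]
      exact bot_le) hc
    have : a ∈ A ⊓ K := ⟨ha, (mul_mem_cancel_left h3).1 ((hK M).2 hMM hn)⟩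
    rw [h2, mem_bot] at this
    rwa [this, mul_one]
  refine h.ce (h.solv h.hgen ⟨3, ?_⟩)
  have h3 := comm_le h1 le_normalizer_of_normal (h.comm hA)
  have h4 : ⁅⁅K, M⁆, K⁆ = ⊥ := commutator_eq_bot_iff_le_centralizer.2
    (((hK K).1 le_rfl).trans (center_le_centralizer _))
  have h5 := commutator_eq_bot_iff_le_centralizer.1
    (commutator_commutator_eq_bot_of_rotate h4 (by rwa [commutator_comm M K]))
  rw [← map_derivedSeries_eq (QuotientGroup.mk'_surjective _), GT.map_mk'_eq_bot_iff]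
  exact (commutator_mono ((commutator_mono h3 h3).trans h5) le_top).trans (h.lemR hA e)

theorem cent_solv [N.Normal] (hs : Group.IsSolvable N) : N ≤ center G := by
  by_contra hc
  obtain ⟨r, hr, M, hMn, -, hM, hMc, -⟩ := exists_M N hs hc
  by_cases e : r = q
  · exact hMc (h.lemA (e ▸ hM))
  refine hMc (h.le_center h.hgen fun A hA =>
    cent_of_norm h.hp (h.card A hA) hr hM (fun x hx => ?_) le_normalizer_of_normal)
  by_contra hx'
  have hB := h.inv A hA x
  have h1 : ⁅A ⊔ A ^ᶜ x, A ⊔ A ^ᶜ x⁆ ≤ M := comm_le (sup_le le_sup_right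
    (GT.map_conj_le_of_mem le_sup_right (mem_sup_left hx))) le_normalizer_of_normal (h.comm hA)
  have := Fact.mk hr
  have := Fact.mk h.hq
  refine h.neL hA hB (fun e => hx' (GT.map_conj_eq_self_iff.1 e.symm)) ?_
  simpa using (IsPGroup.disjoint_of_ne r q e _ _ (hM.to_le h1) (h.qL hA hB)).eq_bot

theorem cent_comm [N.Normal] (hN : ⁅N, N⁆ ≤ center G) : N ≤ center G := by
  have : Group.IsNilpotent N :=
    isNilpotent_of_lowerCentralSeries_eq_bot (n := 2) (commutator_eq_bot_iff_le_centralizer.2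
      (hN.trans (center_le_centralizer _)))
  exact h.cent_solv inferInstance

theorem sup_top [N.Normal] (hN : ¬ N ≤ center G) (hA : A ∈ D) : N ⊔ A = ⊤ := by
  by_contra e
  exact hN (h.cent_comm ((commutator_mono le_rfl le_top).trans
    ((h.lemR hA e).trans (h.lemA (GT.isPGroup_pCore q)))))

end Min

end Cfsg.Agent.AFro
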