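import Mathlib
import Cfsg.Agent.AFro.D

/-! Maximal subspaces of a minimal counterexample. -/

set_option autoImplicit false
set_option linter.unusedSectionVars false

namespace Cfsg.Agent.AFro

open Subgroup
open scoped commutatorElement

local notation:75 H " ^ᶜ " g:76 => Subgroup.map (MulEquiv.toMonoidHom (MulAut.conj g)) H

variable {G : Type*} [Group G] [Finite G]

theorem bil_l {Q : Subgroup G} (hQ : ⁅Q, Q⁆ ≤ centralizer (Q : Set G)) {x y z : G} (hx : x ∈ Q)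
    (hy : y ∈ Q) (hz : z ∈ Q) : ⁅x * y, z⁆ = ⁅x, z⁆ * ⁅y, z⁆ := by
  have := hQ (commutator_mem_commutator hy hz) _ (mul_mem (mul_mem hz (inv_mem hx)) (inv_mem hz))
  calc ⁅x * y, z⁆ = x * (⁅y, z⁆ * (z * x⁻¹ * z⁻¹)) := by simp only [commutatorElement_def]; group
    _ = _ := by rw [← this]; simp only [commutatorElement_def]; group

theorem bil_r {Q : Subgroup G} (hQ : ⁅Q, Q⁆ ≤ centralizer (Q : Set G)) {x y z : G} (hx : x ∈ Q)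
    (hy : y ∈ Q) (hz : z ∈ Q) : ⁅x, y * z⁆ = ⁅x, y⁆ * ⁅x, z⁆ := by
  have := hQ (commutator_mem_commutator hx hz) _ hy
  calc ⁅x, y * z⁆ = ⁅x, y⁆ * (y * ⁅x, z⁆) * y⁻¹ := by simp only [commutatorElement_def]; group
    _ = _ := by rw [this]; group

theorem comm_drop {Q : Subgroup G} {x y z z' : G} (hx : x ∈ Q) (hy : y ∈ Q) (hz' : z' ∈ Q)
    (h1 : z ∈ centralizer (Q : Set G)) (h2 : z' ∈ centralizer (Q : Set G)) :
    ⁅z * x, z' * y⁆ = ⁅x, y⁆ := by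
  have e1 := h1 _ (mul_mem (mul_mem hx (mul_mem hz' hy)) (inv_mem hx))
  have e2 := h2 _ hx
  have e3 := h2 _ (mul_mem (mul_mem (mul_mem hx hy) (inv_mem hx)) (inv_mem hy))
  calc _ = z * (x * (z' * y) * x⁻¹) * z⁻¹ * (z' * y)⁻¹ := by simp only [commutatorElement_def]; group
    _ = x * z' * y * x⁻¹ * y⁻¹ * z'⁻¹ := by rw [← e1]; group
    _ = z' * (x * y * x⁻¹ * y⁻¹) * z'⁻¹ := by rw [e2]; group
    _ = _ := by rw [← e3, commutatorElement_def]; group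

theorem mem_of_sq {H : Subgroup G} {x : G} (ho : Odd (orderOf x)) (hx : x * x ∈ H) : x ∈ H := by
  obtain ⟨k, hk⟩ := ho
  have := pow_mem hx (k + 1)
  rwa [← sq, ← pow_mul, show 2 * (k + 1) = orderOf x + 1 by omega, pow_succ, pow_orderOf_eq_one,
    one_mul] at this

/-- Maximal proper subspaces. -/
def Mx (D : Set (Subgroup G)) (X : Subgroup G) : Prop := Maximal (fun X => Sub D X ∧ X ≠ ⊤) X

theorem exists_mx {D : Set (Subgroup G)} {Y : Subgroup G} (h1 : Sub D Y) (h2 : Y ≠ ⊤) :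
    ∃ X, Y ≤ X ∧ Mx D X := Finite.exists_le_maximal (p := fun X => Sub D X ∧ X ≠ ⊤) ⟨h1, h2⟩

section mx
variable {D : Set (Subgroup G)} {X Y B : Subgroup G}

theorem Mx.sup (hX : Mx D X) (hB : B ∈ D) (h : ¬ B ≤ X) : X ⊔ B = ⊤ := by
  by_contra e
  exact h (le_sup_right.trans (hX.2 ⟨hX.1.1.sup (sub_mem hB), e⟩ le_sup_left))

theorem Mx.cent (hX : Mx D X) (hB : B ∈ D) (h : ¬ B ≤ X) {u : G} (h1 : u ∈ centralizer (X : Set G))
    (h2 : u ∈ centralizer (B : Set G)) : u ∈ center G := by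
  rw [← GT.centralizer_top, ← hX.sup hB h, GT.centralizer_sup]; exact ⟨h1, h2⟩

theorem Mx.ex (hX : Mx D X) (hY : Mx D Y) (h : X ≠ Y) : ∃ B ∈ D, B ≤ X ∧ ¬ B ≤ Y := by
  by_contra! e
  exact h (le_antisymm (hX.1.1.le e) (hX.2 hY.1 (hX.1.1.le e)))

theorem Mx.both (hX : Mx D X) (hY : Mx D Y) (h : X ≠ Y) {u : G} (h1 : u ∈ centralizer (X : Set G))
    (h2 : u ∈ centralizer (Y : Set G)) : u ∈ center G := by
  obtain ⟨B, hB, h3, h4⟩ := hX.ex hY h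
  exact hY.cent hB h4 h2 (GT.centralizer_anti h3 h1)

end mx

namespace Min
variable {p q : ℕ} {F : Type*} [Group F] {D : Set (Subgroup G)} (h : Min p q F D)
variable {A B C X Y S N : Subgroup G}
include h

theorem mx_conj (hX : Mx D X) (g : G) : Mx D (X ^ᶜ g) :=
  ⟨⟨h.sub_conj hX.1.1 g, fun e => hX.1.2 (GT.map_conj_eq_top_iff.1 e)⟩, fun _ hY h1 =>
    GT.le_map_conj_iff.2 (hX.2 ⟨h.sub_conj hY.1 _, fun e => hY.2 (GT.map_conj_eq_top_iff.1 e)⟩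
      (GT.map_conj_le_iff.1 h1))⟩

theorem mq (hX : Mx D X) : IsPGroup q (⁅X, X⁆ : Subgroup G) := h.ind X hX.1.1 hX.1.2

theorem mst (hX : Mx D X) : ⁅⁅X, X⁆, ⁅X, X⁆⁆ ≤ centralizer (X : Set G) :=
  h.st h.hna hX.1.1 (h.mq hX)

theorem odd_ord (hS : IsPGroup q S) {x : G} (hx : x ∈ S) : Odd (orderOf x) :=
  (h.odd_q hS).of_dvd_nat (S.orderOf_dvd_natCard hx)

theorem half (hX : Mx D X) (hY : Mx D Y) (hne : X ≠ Y) (hA : A ∈ D) (hAX : A ≤ X) (hAY : A ≤ Y)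
    (hu : ¬ ⁅⁅Y, Y⁆, ⁅Y, Y⁆⁆ ⊓ normalizer (X : Set G) ≤ center G) :
    ¬ ⁅⁅X, X⁆, ⁅X, X⁆⁆ ⊓ normalizer (Y : Set G) ≤ center G ∧ ∃ B ∈ D, B ≤ X ∧ ¬ B ≤ Y ∧
      ¬ ⁅⁅A ⊔ B, A ⊔ B⁆, ⁅A ⊔ B, A ⊔ B⁆⁆ ≤ center G ∧ B ≤ normalizer
      ((⁅gen D (X ⊓ Y), gen D (X ⊓ Y)⁆ ⊔ ⁅⁅Y, Y⁆, ⁅Y, Y⁆⁆ ⊓ normalizer (X : Set G) ⊔
        ⁅⁅X, X⁆, ⁅X, X⁆⁆ ⊓ normalizer (Y : Set G) : Subgroup G) : Set G) := by
  have := Fact.mk h.hq
  obtain ⟨W, hW⟩ : ∃ W, W = gen D (X ⊓ Y) := ⟨_, rfl⟩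
  have hWs : Sub D W := hW ▸ sub_gen
  have hWX : W ≤ X := hW ▸ gen_le.trans inf_le_left
  have hWY : W ≤ Y := hW ▸ gen_le.trans inf_le_right
  have hWl : ∀ B ∈ D, B ≤ X → B ≤ Y → B ≤ W := fun B hB h1 h2 => hW ▸ le_gen hB (le_inf h1 h2)
  have hAW := hWl A hA hAX hAY
  rw [← hW]
  obtain ⟨A₁, hA₁⟩ : ∃ A₁, A₁ = ⁅⁅Y, Y⁆, ⁅Y, Y⁆⁆ ⊓ normalizer (X : Set G) := ⟨_, rfl⟩
  have a1 : A₁ ≤ centralizer (Y : Set G) := hA₁ ▸ inf_le_left.trans (h.mst hY)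
  have a2 : A₁ ≤ normalizer (X : Set G) := hA₁ ▸ inf_le_right
  have a3 : IsPGroup q A₁ := (h.mq hY).to_le (hA₁ ▸ inf_le_left.trans (comm_self_le _))
  rw [← hA₁] at hu ⊢
  clear hA₁ hW
  have hq := h.mq hX
  have hZ := h.mst hX
  have hcq : ∀ x ∈ ⁅X, X⁆, x ∈ normalizer (A : Set G) → x ∈ ⁅⁅X, X⁆, ⁅X, X⁆⁆ :=
    fun x => h.cq hX.1.1 hq hA hAX
  have hcj : ∀ B ∈ D, B ≤ X → ∃ x ∈ ⁅X, X⁆, A ^ᶜ x = B := fun B hB => h.conj' hX.1.1 hA hB hAX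
  have hWQ : ⁅W, W⁆ ≤ ⁅X, X⁆ := commutator_mono hWX hWX
  have hQX := comm_self_le X
  have nQ : normalizer (X : Set G) ≤ normalizer ((⁅X, X⁆ : Subgroup G) : Set G) := norm_comm le_rfl
  generalize ⁅X, X⁆ = Q at *
  have hZQ := comm_self_le Q
  have hZ' := hZ.trans (GT.centralizer_anti hQX)
  have nZ : normalizer (X : Set G) ≤ normalizer ((⁅Q, Q⁆ : Subgroup G) : Set G) := norm_comm nQ
  have hW2 : ⁅⁅W, W⁆, ⁅W, W⁆⁆ ≤ center G := fun x hx => hX.both hY hne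
    (hZ (commutator_mono hWQ hWQ hx)) (h.mst hY (commutator_mono (commutator_mono hWY hWY)
      (commutator_mono hWY hWY) hx))
  have a4 : ∀ u ∈ A₁, ∀ w ∈ ⁅W, W⁆, w * u = u * w := fun u hu w hw =>
    a1 hu w (hWY (comm_self_le W hw))
  have a5 : ∀ u ∈ A₁, u ∈ centralizer (A : Set G) := fun u hu => GT.centralizer_anti hAY (a1 hu)
  have hR : ∀ r ∈ ⁅Q, Q⁆ ⊔ ⁅W, W⁆, ∃ z ∈ ⁅Q, Q⁆, ∃ w ∈ ⁅W, W⁆, z * w = r := fun r =>
    (GT.PG.mem_sup_of_le_normalizer ((hWQ.trans hQX).trans (le_normalizer.trans nZ))).1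
  have hRQ : ⁅Q, Q⁆ ⊔ ⁅W, W⁆ ≤ Q := sup_le hZQ hWQ
  have nR : Q ≤ normalizer ((⁅Q, Q⁆ ⊔ ⁅W, W⁆ : Subgroup G) : Set G) :=
    le_normalizer_iff_commutator_le_left.2 ((commutator_mono hRQ le_rfl).trans le_sup_left)
  have nR' : A ≤ normalizer ((⁅Q, Q⁆ ⊔ ⁅W, W⁆ : Subgroup G) : Set G) := GT.PG.le_normalizer_sup
    (hAX.trans (le_normalizer.trans nZ)) (norm_comm (hAW.trans le_normalizer))
  have cA : ∀ z ∈ ⁅Q, Q⁆, ∀ x ∈ X, A ^ᶜ (z * x) = A ^ᶜ x := fun z hz x hx => by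
    rw [← hZ hz x hx, GT.map_conj_mul, GT.map_conj_eq_of_mem_norm
      (centralizer_le_normalizer _ (GT.centralizer_anti hAX (hZ hz)))]
  obtain ⟨n, hn⟩ := GT.PG.exists_iterCommutator_eq_bot_of_isPGroup hq a3 (a2.trans nQ)
  obtain ⟨x₀, hx₀, hx₀R, hx₀c⟩ := GT.PG.exists_notMem_commutator_mem_of_iterCommutator
    (N := ⁅Q, Q⁆ ⊔ ⁅W, W⁆) hn (a2.trans nQ) fun hle => by
      obtain ⟨B, hB, h1, h2⟩ := hX.ex hY hne
      obtain ⟨x, hx, rfl⟩ := hcj B hB h1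
      obtain ⟨z, hz, w, hw, rfl⟩ := hR x (hle hx)
      exact h2 (cA z hz w (hQX (hWQ hw)) ▸ GT.map_conj_le_of_mem hAY (hWY (comm_self_le W hw)))
  let X₁ : Subgroup G :=
    { carrier := {x | x ∈ Q ∧ ∀ u ∈ A₁, ⁅u, x⁆ ∈ ⁅Q, Q⁆ ⊔ ⁅W, W⁆}
      one_mem' := ⟨one_mem _, fun u _ => by simp⟩
      mul_mem' := fun {x y} hx hy => ⟨mul_mem hx.1 hy.1, fun u hu => by
        rw [show ⁅u, x * y⁆ = ⁅u, x⁆ * (x * ⁅u, y⁆ * x⁻¹) by simp only [commutatorElement_def]; group]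
        exact mul_mem (hx.2 u hu) (GT.conj_mem_of_mem_normalizer (nR hx.1) (hy.2 u hu))⟩
      inv_mem' := fun {x} hx => ⟨inv_mem hx.1, fun u hu => by
        rw [show ⁅u, x⁻¹⁆ = x⁻¹ * ⁅u, x⁆⁻¹ * x by simp only [commutatorElement_def]; group]
        exact GT.conj_mem_of_mem_normalizer' (nR hx.1) (inv_mem (hx.2 u hu))⟩ }
  have cj : ∀ u ∈ A₁, ∀ a ∈ A, ∀ y, ⁅u, a * y * a⁻¹⁆ = a * ⁅u, y⁆ * a⁻¹ := fun u hu a ha y => by
    rw [conjugate_commutatorElement, a5 u hu a ha, mul_inv_cancel_right]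
  have nX₁ : A ≤ normalizer (X₁ : Set G) := fun a ha => GT.mem_normalizer_iff_of_finite.2
    fun y hy => ⟨GT.conj_mem_of_mem_normalizer (nQ (le_normalizer (hAX ha))) hy.1, fun u hu =>
      cj u hu a ha y ▸ GT.conj_mem_of_mem_normalizer (nR' ha) (hy.2 u hu)⟩
  have hx₀1 : x₀ ∈ X₁ := ⟨hx₀, fun u hu => commutatorElement_inv x₀ u ▸ inv_mem (hx₀c u hu)⟩
  have hB := h.inv A hA x₀
  have hBX := GT.map_conj_le_of_mem hAX (hQX hx₀)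
  have hBY : ¬ A ^ᶜ x₀ ≤ Y := fun e => hx₀R (by
    obtain ⟨w, hw, e'⟩ := h.conj' hWs hA hB hAW (hWl _ hB hBX e)
    have := hcq _ (mul_mem (inv_mem hx₀) (hWQ hw)) (GT.map_conj_eq_map_conj_iff.1 e')
    exact inv_mem_iff.1 ((mul_mem_cancel_right (mem_sup_right hw)).1 (mem_sup_left this)))
  have hL : ⁅A ⊔ A ^ᶜ x₀, A ⊔ A ^ᶜ x₀⁆ ≤ X₁ := comm_le (sup_le le_sup_right
    (GT.map_conj_le_of_mem le_sup_right (mem_sup_left hx₀1))) nX₁ (h.comm hA)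
  obtain ⟨x, hx, ex⟩ := h.conj' ((sub_mem hA).sup (sub_mem hB)) hA hB le_sup_left le_sup_right
  have nL := norm_comm (le_sup_left.trans (le_normalizer (H := A ⊔ A ^ᶜ x₀)))
  generalize A ^ᶜ x₀ = B at *
  generalize hLe : ⁅A ⊔ B, A ⊔ B⁆ = L at hL hx nL
  obtain ⟨u₀, hu₀, hu₀Z⟩ := SetLike.not_le_iff_exists.1 hu
  have dd : ∀ u ∈ A₁, ∀ y ∈ X₁, ∃ z ∈ ⁅Q, Q⁆, ∃ w ∈ ⁅W, W⁆, u * y * u⁻¹ = z * (w * y) :=
    fun u hu y hy => by
      obtain ⟨z, hz, w, hw, e⟩ := hR _ (hy.2 u hu)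
      exact ⟨z, hz, w, hw, by rw [← mul_assoc, e, commutatorElement_def]; group⟩
  have cB : ∀ u ∈ A₁, ∀ z ∈ ⁅Q, Q⁆, ∀ w ∈ Q, u * x * u⁻¹ = z * (w * x) →
      w⁻¹ * u ∈ centralizer (B : Set G) := fun u hu z hz w hw e => by
    rw [← ex, GT.centralizer_map_conj, GT.mem_map_conj, show x⁻¹ * (w⁻¹ * u) * x =
      x⁻¹ * w⁻¹ * (u * x * u⁻¹) * u by group, e, ← hZ' hz _ (mul_mem hw (hL hx).1),
      show x⁻¹ * w⁻¹ * (w * x * z) * u = z * u by group]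
    exact mul_mem (GT.centralizer_anti hAX (hZ hz)) (a5 u hu)
  have nY : ∀ ζ, ⁅ζ, u₀⁆ ∈ center G → ζ ∈ normalizer (Y : Set G) := fun ζ hζ =>
    GT.mem_normalizer_of_map_conj_le (GT.map_conj_le_iff.2 (hY.1.1.le fun C hC h1 => by
      rw [← GT.map_conj_le_iff]
      by_contra h2
      refine hu₀Z (hY.cent (h.inv C hC ζ) h2 (a1 hu₀) ?_)
      rw [← mul_mem_cancel_left (center_le_centralizer _ hζ), GT.centralizer_map_conj,
        GT.mem_map_conj, commutatorElement_def,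
        show ζ⁻¹ * (ζ * u₀ * ζ⁻¹ * u₀⁻¹ * u₀) * ζ = u₀ by group]
      exact GT.centralizer_anti h1 (a1 hu₀)))
  have nY' : ∀ ζ, ∀ c ∈ center G, u₀ * ζ * u₀⁻¹ = c * ζ → ζ ∈ normalizer (Y : Set G) :=
    fun ζ c hc e => nY ζ (by
      rw [← commutatorElement_inv, commutatorElement_def, e, mul_inv_cancel_right]
      exact inv_mem hc)
  have wA₂ : ∀ w ∈ ⁅W, W⁆, ∀ y ∈ X₁, ⁅w, y⁆ ∈ ⁅Q, Q⁆ ⊓ normalizer (Y : Set G) := fun w hw y hy => by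
    obtain ⟨z, hz, w', hw', e⟩ := dd u₀ hu₀ y hy
    refine ⟨commutator_mem_commutator (hWQ hw) hy.1, nY' _ _
      (hW2 (commutator_mem_commutator hw hw')) ?_⟩
    rw [conjugate_commutatorElement, e, ← a4 u₀ hu₀ w hw, mul_inv_cancel_right,
      ← bil_r hZ' (hWQ hw) (hWQ hw') hy.1]
    simpa using comm_drop (z := 1) (hWQ hw) (mul_mem (hWQ hw') hy.1) (hZQ hz) (one_mem _) (hZ' hz)
  have ex4 : ∀ y ∈ Q, ∀ y' ∈ Q, ∀ w ∈ Q, ∀ w' ∈ Q,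
      ⁅w * y, w' * y'⁆ = ⁅w, w'⁆ * ⁅w, y'⁆ * ⁅y, w'⁆ * ⁅y, y'⁆ := fun y hy y' hy' w hw w' hw' => by
    rw [bil_l hZ' hw hy (mul_mem hw' hy'), bil_r hZ' hw hw' hy', bil_r hZ' hy hw' hy', mul_assoc,
      mul_assoc, mul_assoc]
  have hL2 : ¬ ⁅L, L⁆ ≤ center G := fun hc => by
    have k1 : ∀ y ∈ L, ∀ y' ∈ L, ⁅u₀, y⁆ * ⁅u₀, y'⁆ = ⁅u₀, y'⁆ * ⁅u₀, y⁆ := fun y hy y' hy' => by
      obtain ⟨z, hz, w, hw, e⟩ := dd u₀ hu₀ y (hL hy)
      obtain ⟨z', hz', w', hw', e'⟩ := dd u₀ hu₀ y' (hL hy')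
      have hc' : u₀ * ⁅y, y'⁆ * u₀⁻¹ = ⁅y, y'⁆ := by
        rw [mem_center_iff.1 (hc (commutator_mem_commutator hy hy')), mul_inv_cancel_right]
      have q1 := (hL hy).1
      have q2 := (hL hy').1
      have q3 := hWQ hw
      have q4 := hWQ hw'
      have e1 : ⁅w * y, w' * y'⁆ = ⁅y, y'⁆ := by
        rw [← hc', conjugate_commutatorElement, e, e', comm_drop (mul_mem q3 q1) (mul_mem q4 q2)
          (hZQ hz') (hZ' hz) (hZ' hz')]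
      have k2 : ∀ z ∈ ⁅Q, Q⁆, ∀ w ∈ ⁅W, W⁆, ∀ y ∈ Q, u₀ * y * u₀⁻¹ = z * (w * y) →
          u₀ * (w * y) * u₀⁻¹ = z * (w * (w * y)) := fun z hz w hw y _ e => by
        rw [← mul_assoc, ← a4 u₀ hu₀ w hw, ← mul_assoc z, ← hZ' hz w (hWQ hw), mul_assoc w z, ← e]
        group
      have e2 : ⁅w * (w * y), w' * (w' * y')⁆ = ⁅y, y'⁆ := by
        rw [← hc', ← e1, conjugate_commutatorElement, k2 z hz w hw y q1 e, k2 z' hz' w' hw' y' q2 e',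
          comm_drop (mul_mem q3 (mul_mem q3 q1)) (mul_mem q4 (mul_mem q4 q2)) (hZQ hz') (hZ' hz)
          (hZ' hz')]
      rw [ex4 _ (mul_mem q3 q1) _ (mul_mem q4 q2) _ q3 _ q4, e1, bil_r hZ' q3 q4 q2,
        bil_l hZ' q3 q1 q4, mul_eq_right] at e2
      rw [ex4 _ q1 _ q2 _ q3 _ q4, mul_eq_right] at e1
      have e3 := hZ' (commutator_mem_commutator q3 q4) _ (hZQ (commutator_mem_commutator q3 q2))
      have e4 : ⁅w, w'⁆ * ⁅w, w'⁆ ∈ (⊥ : Subgroup G) := by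
        rw [mem_bot, ← e2, mul_assoc ⁅w, w'⁆ (_ * _), mul_assoc ⁅w, w'⁆ ⁅w, y'⁆, ← mul_assoc ⁅w, y'⁆,
          e3, e1, mul_one]
      have e5 := mem_of_sq (h.odd_ord hq (hZQ (commutator_mem_commutator q3 q4))) e4
      rw [mem_bot, ← comm_drop q3 q4 (hZQ hz') (hZ' hz) (hZ' hz'),
        commutatorElement_eq_one_iff_commute] at e5
      rw [commutatorElement_def, commutatorElement_def, e, e', ← mul_assoc z, ← mul_assoc z',
        mul_inv_cancel_right, mul_inv_cancel_right, e5.eq]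
    have k3 := h.abel h.hna hA (S := closure {d | ∃ y ∈ L, ⁅u₀, y⁆ = d}) (hq.to_le ((closure_le _).2 (by
      rintro _ ⟨y, hy, rfl⟩; exact hRQ ((hL hy).2 u₀ hu₀)))) (fun a ha =>
      GT.mem_normalizer_of_map_conj_le (by
        rw [MonoidHom.map_closure]
        refine closure_mono ?_
        rintro _ ⟨_, ⟨y, hy, rfl⟩, rfl⟩
        exact ⟨_, GT.conj_mem_of_mem_normalizer (nL ha) hy, cj u₀ hu₀ a ha y⟩)) (by
      rw [centralizer_closure, closure_le]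
      rintro _ ⟨y, hy, rfl⟩ _ ⟨y', hy', rfl⟩
      exact k1 y' hy' y hy)
    have k4 := hcq _ (hRQ ((hL hx).2 u₀ hu₀))
      (centralizer_le_normalizer _ (k3 (subset_closure ⟨x, hx, rfl⟩)))
    have := cB u₀ hu₀ _ k4 1 (one_mem _) (by rw [commutatorElement_def]; group)
    exact hu₀Z (hY.cent hB hBY (a1 hu₀) (by simpa using this))
  refine ⟨fun hc => hL2 (commutator_le.2 fun y hy y' hy' => ?_), B, hB, hBX, hBY,
    by rwa [hLe], ?_⟩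
  · obtain ⟨z, hz, w, hw, e⟩ := dd u₀ hu₀ y (hL hy)
    obtain ⟨z', hz', w', hw', e'⟩ := dd u₀ hu₀ y' (hL hy')
    refine hc ⟨commutator_mem_commutator (hL hy).1 (hL hy').1, nY' _ _ (mul_mem (mul_mem
      (hW2 (commutator_mem_commutator hw hw')) (hc (wA₂ w hw y' (hL hy'))))
      (inv_mem (hc (wA₂ w' hw' y (hL hy))))) ?_⟩
    rw [conjugate_commutatorElement, e, e', comm_drop (mul_mem (hWQ hw) (hL hy).1)
      (mul_mem (hWQ hw') (hL hy').1) (hZQ hz') (hZ' hz) (hZ' hz'),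
      ex4 _ (hL hy).1 _ (hL hy').1 _ (hWQ hw) _ (hWQ hw'), commutatorElement_inv]
  have c2 : X ≤ normalizer ((⁅Q, Q⁆ ⊓ normalizer (Y : Set G) : Subgroup G) : Set G) :=
    (le_centralizer_iff.1 (inf_le_left.trans hZ)).trans (centralizer_le_normalizer _)
  have nS : B ≤ normalizer ((⁅W, W⁆ ⊔ ⁅Q, Q⁆ ⊓ normalizer (Y : Set G) : Subgroup G) : Set G) := by
    rw [← ex]
    refine GT.map_conj_le_of_mem (GT.PG.le_normalizer_sup (norm_comm (hAW.trans le_normalizer))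
      (hAX.trans c2)) (GT.mem_normalizer_of_map_conj_le ?_)
    rw [GT.map_conj_sup, GT.map_conj_eq_of_mem_norm (c2 (hQX (hL hx).1))]
    refine sup_le ((Hyp.conj_le fun w hw => ?_).trans (sup_comm _ _).le) le_sup_right
    exact commutatorElement_inv w x ▸ inv_mem (wA₂ w hw x (hL hx))
  intro b hb
  refine GT.mem_normalizer_of_map_conj_le ?_
  rw [sup_right_comm, GT.map_conj_sup, GT.map_conj_eq_of_mem_norm (nS hb)]
  refine sup_le le_sup_left (GT.map_conj_le_iff_forall.2 fun u hu => ?_)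
  obtain ⟨z, hz, w, hw, e⟩ := dd u hu x (hL hx)
  rw [show b * u * b⁻¹ = b * w * b⁻¹ * (b * (w⁻¹ * u) * b⁻¹) by group,
    cB u hu z hz w (hWQ hw) e b hb, mul_inv_cancel_right]
  exact mul_mem (mem_sup_left (GT.conj_mem_of_mem_normalizer (nS hb) (mem_sup_left hw)))
    (mul_mem (mem_sup_left (mem_sup_left (inv_mem hw))) (mem_sup_right hu))

theorem f1 (hX : Mx D X) (hY : Mx D Y) (hne : X ≠ Y) (hA : A ∈ D) (hAX : A ≤ X) (hAY : A ≤ Y) :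
    ⁅⁅Y, Y⁆, ⁅Y, Y⁆⁆ ⊓ normalizer (X : Set G) ≤ center G := by
  by_contra hu
  obtain ⟨h1, B, hB, hBX, -, h2, h3⟩ := h.half hX hY hne hA hAX hAY hu
  obtain ⟨-, B', hB', -, hBX', -, h4⟩ := h.half hY hX hne.symm hA hAY hAX h1
  rw [inf_comm Y X, sup_right_comm] at h4
  have hT : A ⊔ B ⊔ B' = ⊤ := by
    by_contra e
    have hs := ((sub_mem hA).sup (sub_mem hB)).sup (sub_mem hB')
    have k : ∀ {X Y : Subgroup G}, X ≤ Y → ⁅⁅X, X⁆, ⁅X, X⁆⁆ ≤ ⁅⁅Y, Y⁆, ⁅Y, Y⁆⁆ := fun h =>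
      commutator_mono (commutator_mono h h) (commutator_mono h h)
    exact h2 fun η hη => hX.cent hB' hBX' (h.mst hX (k (sup_le hAX hBX) hη))
      (GT.centralizer_anti le_sup_right (h.st h.hna hs (h.ind _ hs e) (k le_sup_left hη)))
  have c : ∀ {X Y : Subgroup G}, Mx D X → A ≤ X →
      A ≤ normalizer ((⁅⁅X, X⁆, ⁅X, X⁆⁆ ⊓ Y : Subgroup G) : Set G) := fun hX h1 => h1.trans
    ((le_centralizer_iff.1 (inf_le_left.trans (h.mst hX))).trans (centralizer_le_normalizer _))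
  have := normalizer_eq_top_iff.1 (eq_top_iff.2 (hT.ge.trans (sup_le (sup_le
    (GT.PG.le_normalizer_sup (GT.PG.le_normalizer_sup (norm_comm ((le_gen hA (le_inf hAX hAY)).trans
      le_normalizer)) (c hY hAY)) (c hX hAX)) h3) h4)))
  have h5 := gen_le (D := D).trans (inf_le_left (a := X) (b := Y))
  refine hu ((le_sup_right.trans le_sup_left).trans (@lemA _ _ _ _ _ _ _ _ h _ this ((GT.PG.isPGroup_sup_of_le_normalizer
    ((h.mq hY).to_le (inf_le_left.trans (comm_self_le _))) (h.mq hX) (norm_comm inf_le_right)).to_le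
    (sup_le (sup_le ((commutator_mono h5 h5).trans le_sup_right) le_sup_left)
      ((inf_le_left.trans (comm_self_le _)).trans le_sup_right)))))

end Min

end Cfsg.Agent.AFro
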