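import Mathlib
import Cfsg.Agent.S0111
import Cfsg.Agent.Loc.CommGraph
import Cfsg.Agent.Inv.SylowTools
import Cfsg.Agent.GT.FourGroup
import Cfsg.Agent.GT.PGroupBasic
import Cfsg.Agent.GT.Conj
import Cfsg.Prelude.Def_Involutions

/-! Colourings of involutions that are constant on elementary subgroups of order eight. -/

set_option autoImplicit false

namespace Cfsg.Agent.AFro

open Subgroup Pointwise

variable {G : Type*} [Group G]

/-- A conjugation invariant equivalence relation under which two commuting involutions lying in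
an elementary subgroup of order eight are equivalent. -/
structure Col (r : G → G → Prop) : Prop where
  eqv : Equivalence r
  conj : ∀ g s t, r s t → r (g * s * g⁻¹) (g * t * g⁻¹)
  eight : ∀ s t u : G, orderOf s = 2 → orderOf t = 2 → orderOf u = 2 → Commute s t →
    Commute s u → Commute t u → s ≠ t → u ≠ s → u ≠ t → u ≠ s * t → r s t

theorem sq2 {s : G} (h : orderOf s = 2) : s * s = 1 := by
  rw [← sq, ← h, pow_orderOf_eq_one]

theorem ne1 {s : G} (h : orderOf s = 2) : s ≠ 1 := by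
  rintro rfl; simp at h

theorem inv2 {s : G} (h : orderOf s = 2) : s⁻¹ = s := inv_eq_of_mul_eq_one_right (sq2 h)

theorem ord2 {s : G} (h : s * s = 1) (h1 : s ≠ 1) : orderOf s = 2 :=
  orderOf_eq_prime (by rw [sq, h]) h1

theorem ord2_mul {s t : G} (hs : orderOf s = 2) (ht : orderOf t = 2) (c : Commute s t)
    (h : s ≠ t) : orderOf (s * t) = 2 :=
  ord2 (by rw [mul_assoc, ← mul_assoc t, ← c.eq, mul_assoc, sq2 ht, mul_one, sq2 hs])
    fun e => h (by rw [← inv2 ht]; exact eq_inv_of_mul_eq_one_left e)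

/-- A normal four-group `⟨z, u⟩` of `T` with `z` central, inside an elementary group of order 8. -/
structure Fr (T : Subgroup G) (z u w : G) : Prop where
  hz : orderOf z = 2
  hu : orderOf u = 2
  hw : orderOf w = 2
  zT : z ∈ T
  uT : u ∈ T
  wT : w ∈ T
  zc : ∀ g ∈ T, Commute z g
  zu : z ≠ u
  nrm : ∀ g ∈ T, g * u * g⁻¹ = u ∨ g * u * g⁻¹ = z * u
  uw : Commute u w
  wz : w ≠ z
  wu : w ≠ u
  wzu : w ≠ z * u

theorem exists_fr [Finite G] (h3 : PRankAtLeast 2 3 G) (T : Sylow 2 G) :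
    ∃ z u w, Fr (T : Subgroup G) z u w := by
  obtain ⟨E₀, hE1, hE2, hE3⟩ := h3
  have hEp : IsPGroup 2 E₀ := fun a => ⟨1, Subtype.ext (by simpa using hE2 a a.2)⟩
  obtain ⟨n, -, hn⟩ := Inv.ST.exists_le_smul_sylow T le_top hEp le_top
  let E : Subgroup G := E₀.map (MulAut.conj n⁻¹).toMonoidHom
  have hET : E ≤ T := by
    rw [GT.map_conj_le_iff, inv_inv]; exact hn
  have hE : IsElementaryAbelian 2 E := ⟨inferInstance, by
    rintro _ ⟨a, ha, rfl⟩
    rw [← map_pow, hE2 a ha, map_one]⟩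
  have hE8 : 8 ≤ Nat.card E := by rw [GT.card_map_conj]; exact hE3
  obtain ⟨U, hUn, hU, hU4⟩ := Loc.CG.exists_normal_sq (p := 2) T.isPGroup' fun h => by
    have := h.card_le_of_le hET hE
    omega
  have := T.isPGroup'.isNilpotent
  have hUb : U ≠ ⊥ := by rintro rfl; simp at hU4
  obtain ⟨⟨z, hzU, hzc⟩, hz1⟩ := (ne_bot_iff_exists_ne_one.1 (GT.PG.inf_center_ne_bot U hUb))
  have hz1 : z ≠ 1 := fun e => hz1 (Subtype.ext e)
  have o2 : ∀ x ∈ U, x ≠ 1 → orderOf x = 2 := fun x hx h => orderOf_eq_prime (hU.2 x hx) h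
  obtain ⟨u, huU, huz⟩ : ∃ u ∈ U, u ∉ zpowers z := by
    by_contra! h
    have := card_le_of_le (show U ≤ zpowers z from h)
    rw [Nat.card_zpowers, o2 z hzU hz1, hU4] at this
    omega
  have hu1 : u ≠ 1 := by rintro rfl; exact huz (one_mem _)
  have hzu : z ≠ u := by rintro rfl; exact huz (mem_zpowers _)
  have cz : ∀ g, Commute z g := fun g => (mem_center_iff.1 hzc g).symm
  have hUe : zpowers z ⊔ zpowers u = U := eq_of_le_of_card_ge
    (sup_le (zpowers_le.2 hzU) (zpowers_le.2 huU))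
    (by rw [GT.card_four_group (o2 z hzU hz1) (o2 u huU hu1) hzu (cz u), hU4]; rfl)
  have cs : ∀ x ∈ U, x = 1 ∨ x = z ∨ x = u ∨ x = z * u := fun x hx =>
    GT.mem_four_group_cases (hU.2 z hzU) (hU.2 u huU) (cz u) (hUe ▸ hx)
  have nrm : ∀ g : (T : Subgroup G), g * u * g⁻¹ = u ∨ g * u * g⁻¹ = z * u := fun g => by
    rcases cs _ (hUn.conj_mem u huU g) with h | h | h | h
    · exact absurd (by simpa using h) hu1
    · refine absurd ?_ hzu
      rw [mul_inv_eq_iff_eq_mul, (cz g).eq] at h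
      exact (mul_left_cancel h).symm
    · exact .inl h
    · exact .inr h
  have nrm' : ∀ g ∈ (T : Subgroup G), g * u * g⁻¹ = u ∨ g * u * g⁻¹ = z * u := fun g hg =>
    (nrm ⟨g, hg⟩).imp (congrArg Subtype.val) (congrArg Subtype.val)
  have oz : orderOf (z : G) = 2 := by rw [orderOf_coe]; exact o2 z hzU hz1
  have ou : orderOf (u : G) = 2 := by rw [orderOf_coe]; exact o2 u huU hu1
  have czG : ∀ g ∈ (T : Subgroup G), Commute (z : G) g := fun g hg =>
    congrArg Subtype.val (cz ⟨g, hg⟩)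
  have hEc := GT.PG.isMulCommutative_iff_forall.1 hE.1
  obtain ⟨w, hwE, huw, hw⟩ : ∃ w ∈ E, Commute (u : G) w ∧ w ∉ zpowers (z : G) ⊔ zpowers (u : G) := by
    by_contra! h
    have c4 := GT.card_four_group oz ou (fun e => hzu (Subtype.ext e)) (czG _ u.2)
    have cm : ∀ g : G, g * u * g⁻¹ = u → Commute (u : G) g := fun g e =>
      (mul_inv_eq_iff_eq_mul.1 e).symm
    by_cases h1 : ∀ x ∈ E, Commute (u : G) x
    · have := card_le_of_le (show E ≤ _ from fun x hx => h x hx (h1 x hx))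
      omega
    push Not at h1
    obtain ⟨x, hx, hxu⟩ := h1
    have hx' := (nrm' x (hET hx)).resolve_left fun e => hxu (cm x e)
    have h2 : (E ⊓ centralizer {(u : G)}) ≤ zpowers (z : G) := fun y hy => by
      have hc : Commute (u : G) y := (mem_centralizer_singleton_iff.1 hy.2).symm
      rcases GT.mem_four_group_cases (by rw [sq, sq2 oz]) (by rw [sq, sq2 ou]) (czG _ u.2)
        (h y hy.1 hc) with e | e | e | e
      · exact e ▸ one_mem _
      · exact e ▸ mem_zpowers _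
      · exact absurd (e ▸ hEc y hy.1 x hx) hxu
      · refine absurd ?_ hxu
        have h5 : Commute ((z : G) * u) x := e ▸ hEc y hy.1 x hx
        have := (czG x (hET hx)).mul_left h5
        rwa [← mul_assoc, sq2 oz, one_mul] at this
    have h4 : (E ⊓ centralizer {(u : G)}).relIndex E ≤ 2 := by
      rw [inf_comm, inf_relIndex_right]
      refine le_of_eq (relIndex_eq_two_iff.2 ⟨x, hx, fun b hb => ?_⟩)
      simp only [mem_centralizer_singleton_iff]
      rcases nrm' b (hET hb) with e | e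
      · refine .inr ⟨(cm b e).symm, fun e' => hxu ?_⟩
        have := (cm b e).inv_right.mul_right (show Commute (u : G) (b * x) from e'.symm)
        rwa [inv_mul_cancel_left] at this
      · refine .inl ⟨(cm _ ?_).symm, fun e' => ?_⟩
        · calc b * x * u * (b * x)⁻¹ = b * (x * u * x⁻¹) * b⁻¹ := by group
            _ = z * (b * u * b⁻¹) := by rw [hx', ← mul_assoc b, ← (czG b (hET hb)).eq]; group
            _ = u := by rw [e, ← mul_assoc, sq2 oz, one_mul]
        · rw [e', mul_inv_cancel_right] at e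
          exact ne1 oz (by simpa using e.symm)
    have h5 := GT.PG.relIndex_mul_card (inf_le_left : E ⊓ centralizer {(u : G)} ≤ E)
    have h6 := card_le_of_le h2
    rw [Nat.card_zpowers, oz] at h6
    nlinarith
  have hw1 : w ≠ 1 := by rintro rfl; exact hw (one_mem _)
  refine ⟨z, u, w, oz, ou, orderOf_eq_prime (hE.2 w hwE) hw1, z.2, u.2, hET hwE, czG,
    fun e => hzu (Subtype.ext e), nrm', huw, ?_, ?_, ?_⟩ <;> rintro rfl
  · exact hw (mem_sup_left (mem_zpowers _))
  · exact hw (mem_sup_right (mem_zpowers _))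
  · exact hw (mul_mem_sup (mem_zpowers _) (mem_zpowers _))

variable {r : G → G → Prop} {T : Subgroup G} {z u w : G}

theorem Fr.rel (F : Fr T z u w) (h : Col r) {s : G} (hs : orderOf s = 2) (hsT : s ∈ T)
    (c : Commute u s) : r z s := by
  by_cases e : s = z
  · exact e ▸ h.eqv.1 _
  by_cases e1 : s = u
  · exact e1 ▸ h.eight z u w F.hz F.hu F.hw (F.zc _ F.uT) (F.zc _ F.wT) F.uw F.zu F.wz F.wu F.wzu
  by_cases e2 : s = z * u
  · subst e2
    refine h.eight z _ w F.hz hs F.hw (F.zc _ hsT) (F.zc _ F.wT) ((F.zc _ F.wT).mul_left F.uw)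
      (Ne.symm e) F.wz F.wzu ?_
    rw [← mul_assoc, sq2 F.hz, one_mul]; exact F.wu
  refine h.eight z s u F.hz hs F.hu (F.zc _ hsT) (F.zc _ F.uT) c.symm (Ne.symm e) F.zu.symm
    (Ne.symm e1) fun e3 => e2 ?_
  rw [e3, ← mul_assoc, sq2 F.hz, one_mul]

theorem Fr.conj_u (F : Fr T z u w) (h : Col r) {t : G} (ht : orderOf t = 2) (htT : t ∈ T)
    (hn : ¬ r z t) : u * t * u⁻¹ = z * t := by
  rcases F.nrm t htT with e | e
  · exact absurd (F.rel h ht htT (mul_inv_eq_iff_eq_mul.1 e).symm) hn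
  · rw [mul_inv_eq_iff_eq_mul] at e
    rw [inv2 F.hu, mul_assoc, e, ← mul_assoc, ← mul_assoc, ← (F.zc _ F.uT).eq, mul_assoc z,
      sq2 F.hu, mul_one]

theorem Fr.not_rel (F : Fr T z u w) (h : Col r) {t : G} (ht : orderOf t = 2) (htT : t ∈ T)
    (hn : ¬ r z t) : ¬ r z (z * t) := fun e => hn (by
  have := h.conj u⁻¹ _ _ e
  rwa [← F.conj_u h ht htT hn, ← (F.zc _ (inv_mem F.uT)).eq, mul_assoc z, mul_inv_cancel,
    mul_one, ← mul_assoc, ← mul_assoc, inv_mul_cancel, one_mul, mul_assoc, mul_inv_cancel,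
    mul_one] at this)

theorem Col.three (h : Col r) {z t s : G} (hz : orderOf z = 2) (ht : orderOf t = 2)
    (hs : orderOf s = 2) (c : Commute z t) (c1 : Commute z s) (c2 : Commute t s) (hn : ¬ r z t) :
    s = z ∨ s = t ∨ s = z * t := by
  by_contra! e
  exact hn (h.eight z t s hz ht hs c c1 c2 (by rintro rfl; exact hn (h.eqv.1 _)) e.1 e.2.1 e.2.2)

/-- The elements fixing the colour of `t`. -/
def Col.stab (h : Col r) (t : G) : Subgroup G where
  carrier := {g | r (g * t * g⁻¹) t}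
  one_mem' := by simpa using h.eqv.1 t
  mul_mem' {a b} ha hb := h.eqv.3 (by simpa [mul_assoc] using h.conj a _ _ hb) ha
  inv_mem' {a} ha := h.eqv.2 (by simpa [mul_assoc] using h.conj a⁻¹ _ _ ha)

theorem Col.mem_stab (h : Col r) {t g : G} : g ∈ h.stab t ↔ r (g * t * g⁻¹) t := Iff.rfl

theorem Col.mem_stab_of (h : Col r) {t z g : G} (e : r z t) (c : Commute z g) : g ∈ h.stab t := by
  have := h.conj g _ _ e
  rw [← c.eq, mul_inv_cancel_right] at this
  exact h.eqv.3 (h.eqv.2 this) e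

variable [Finite G]

theorem Col.central (h : Col r) (h2 : ∀ M : Subgroup G, M.Normal → M.index ≠ 2)
    (h3 : PRankAtLeast 2 3 G) (T₀ : Sylow 2 G) {z t : G} (hz : orderOf z = 2) (ht : orderOf t = 2)
    (hzT : z ∈ (T₀ : Subgroup G)) (hzc : ∀ g ∈ (T₀ : Subgroup G), Commute z g)
    (htT : t ∈ (T₀ : Subgroup G)) : r z t := by
  by_contra hn
  -- frames with a prescribed central involution
  have fr : ∀ (T : Sylow 2 G) (z t : G), orderOf z = 2 → orderOf t = 2 → z ∈ (T : Subgroup G) →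
      (∀ g ∈ (T : Subgroup G), Commute z g) → t ∈ (T : Subgroup G) → ¬ r z t →
      ∃ u w, Fr (T : Subgroup G) z u w := fun T z t hz ht hzT hzc htT hn => by
    obtain ⟨z', u, w, F⟩ := exists_fr h3 T
    have h1 := F.rel h hz hzT (hzc u F.uT).symm
    have hn' : ¬ r z' t := fun e => hn (h.eqv.3 (h.eqv.2 h1) e)
    rcases h.three F.hz ht hz (F.zc t htT) (F.zc z hzT) (hzc t htT).symm hn' with e | e | e
    · exact ⟨u, w, e ▸ F⟩
    · exact absurd (e ▸ h1) hn'
    · exact absurd (e ▸ h1) (F.not_rel h ht htT hn')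
  obtain ⟨u₀, w₀, F₀⟩ := fr T₀ z t hz ht hzT hzc htT hn
  have hzt := hzc t htT
  obtain ⟨g, hg⟩ : ∃ g, r z (g * t * g⁻¹) := by
    have tu : ¬ Commute u₀ t := fun c => hn (F₀.rel h ht htT c)
    have cm : ∀ g : G, g * u₀ * g⁻¹ = u₀ ↔ g ∈ centralizer {u₀} := fun g => by
      rw [mem_centralizer_singleton_iff, mul_inv_eq_iff_eq_mul]
    have e0 := (F₀.nrm t htT).resolve_left fun e => tu (mul_inv_eq_iff_eq_mul.1 e).symm
    rcases S0111.result T₀ ((T₀ : Subgroup G) ⊓ centralizer {u₀}) inf_le_left (by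
        rw [inf_comm, inf_relIndex_right]
        refine relIndex_eq_two_iff.2 ⟨t, htT, fun b hb => ?_⟩
        rcases F₀.nrm b hb with e | e
        · exact .inr ⟨(cm b).1 e, fun e' => tu (mem_centralizer_singleton_iff.1
            ((mul_mem_cancel_left ((cm b).1 e)).1 e')).symm⟩
        · refine .inl ⟨(cm _).1 ?_, fun e' => ?_⟩
          · calc b * t * u₀ * (b * t)⁻¹ = b * (t * u₀ * t⁻¹) * b⁻¹ := by group
              _ = z * (b * u₀ * b⁻¹) := by rw [e0, ← mul_assoc b, ← (hzc b hb).eq]; group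
              _ = u₀ := by rw [e, ← mul_assoc, sq2 hz, one_mul]
          · rw [(cm b).2 e'] at e
            exact ne1 hz (by simpa using e.symm)) t ht htT
      (fun e => tu (mem_centralizer_singleton_iff.1 e.2).symm) with ⟨M, hM, hi, -⟩ | ⟨g, hg⟩
    · exact absurd hi (h2 M hM)
    · exact ⟨g, F₀.rel h (by rwa [GT.orderOf_conj]) hg.1
        (mem_centralizer_singleton_iff.1 hg.2).symm⟩
  -- a maximal 2-subgroup of the centralizer of `⟨z, t⟩`
  obtain ⟨S, -, ⟨hSp, hS0, hSC⟩, hSm⟩ := Finite.exists_le_maximal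
    (p := fun S : Subgroup G => IsPGroup 2 S ∧ zpowers z ⊔ zpowers t ≤ S ∧
      S ≤ centralizer {z} ⊓ centralizer {t}) (a := zpowers z ⊔ zpowers t) ⟨
      T₀.isPGroup'.to_le (sup_le (zpowers_le.2 hzT) (zpowers_le.2 htT)), le_rfl,
      sup_le (zpowers_le.2 ⟨mem_centralizer_singleton_iff.2 rfl,
        mem_centralizer_singleton_iff.2 hzt⟩) (zpowers_le.2
        ⟨mem_centralizer_singleton_iff.2 hzt.symm, mem_centralizer_singleton_iff.2 rfl⟩)⟩
  have zS : z ∈ S := hS0 (mem_sup_left (mem_zpowers z))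
  have tS : t ∈ S := hS0 (mem_sup_right (mem_zpowers t))
  have smax : ∀ T : Sylow 2 G, S ≤ T → ∀ x ∈ (T : Subgroup G), Commute z x → Commute t x →
      x ∈ S := fun T hT x hx c1 c2 =>
    hSm (y := (T : Subgroup G) ⊓ (centralizer {z} ⊓ centralizer {t}))
      ⟨T.isPGroup'.to_le inf_le_left, hS0.trans (le_inf hT hSC), inf_le_right⟩ (le_inf hT hSC)
      ⟨hx, mem_centralizer_singleton_iff.2 c1.symm, mem_centralizer_singleton_iff.2 c2.symm⟩
  have Sz : ∀ x ∈ S, Commute z x := fun x hx => (mem_centralizer_singleton_iff.1 (hSC hx).1).symm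
  have St : ∀ x ∈ S, Commute t x := fun x hx => (mem_centralizer_singleton_iff.1 (hSC hx).2).symm
  have cT : ∀ (T : Sylow 2 G) (z n : G), (∀ g ∈ (T : Subgroup G), Commute z g) →
      ∀ g ∈ ((n • T : Sylow 2 G) : Subgroup G), Commute (n * z * n⁻¹) g := by
    rintro T z n hc _ ⟨g, hg, rfl⟩
    exact (hc g hg).map (MulAut.conj n)
  obtain ⟨n, hn1, hST⟩ := Inv.ST.exists_le_smul_sylow T₀ (N := centralizer {z})
    (fun x hx => mem_centralizer_singleton_iff.2 (hzc x hx).symm) hSp (hSC.trans inf_le_left)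
  have hzc' := cT T₀ z n hzc
  rw [mem_centralizer_singleton_iff.1 hn1, mul_inv_cancel_right] at hzc'
  generalize n • T₀ = T at hST hzc'
  obtain ⟨u, w, F⟩ := fr T z t hz ht (hST zS) hzc' (hST tS) hn
  have hg' : r (g⁻¹ * z * g⁻¹⁻¹) t := by simpa [mul_assoc] using h.conj g⁻¹ _ _ hg
  obtain ⟨m, hm1, hST'⟩ := Inv.ST.exists_le_smul_sylow (g⁻¹ • T) (N := h.stab t)
    (fun x hx => h.mem_stab_of hg' (cT T z g⁻¹ hzc' x hx)) hSp
    (fun x hx => h.mem_stab_of (h.eqv.1 t) (St x hx))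
  have hzc2 := cT _ _ m (cT T z g⁻¹ hzc')
  have hr2 : r (m * (g⁻¹ * z * g⁻¹⁻¹) * m⁻¹) t := h.eqv.3 (h.conj m _ _ hg') hm1
  have hm2 : m * (g⁻¹ * z * g⁻¹⁻¹) * m⁻¹ ∈ ((m • g⁻¹ • T : Sylow 2 G) : Subgroup G) :=
    ⟨_, ⟨z, F.zT, rfl⟩, rfl⟩
  have ho2 : orderOf (m * (g⁻¹ * z * g⁻¹⁻¹) * m⁻¹) = 2 := by rwa [GT.orderOf_conj, GT.orderOf_conj]
  generalize m * (g⁻¹ * z * g⁻¹⁻¹) * m⁻¹ = z' at hzc2 hr2 hm2 ho2
  generalize m • g⁻¹ • T = T' at hST' hzc2 hm2
  have hn2 : ¬ r z' z := fun e => hn (h.eqv.3 (h.eqv.2 e) hr2)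
  obtain ⟨u', w', F'⟩ := fr T' z' z ho2 hz hm2 hzc2 (hST' zS) hn2
  obtain rfl : t = z' := by
    rcases h.three ho2 hz ht (hzc2 z (hST' zS)) (hzc2 t (hST' tS)) hzt hn2 with e | e | e
    · exact e
    · exact absurd (e ▸ hr2) hn2
    · exact absurd (e ▸ hr2) (F'.not_rel h hz (hST' zS) hn2)
  have e' := F'.conj_u h hz (hST' zS) hn2
  have e := F.conj_u h ht (hST tS) hn
  have nzt := F.not_rel h ht (hST tS) hn
  have zz := sq2 hz
  have hzt1 : z ≠ t := by rintro rfl; exact hn (h.eqv.1 _)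
  have cz : ∀ x ∈ (T : Subgroup G), ∀ y, x * (z * y) * x⁻¹ = z * (x * y * x⁻¹) := fun x hx y => by
    rw [← mul_assoc x, ← (hzc' x hx).eq]; group
  let S' : Subgroup G :=
    { carrier := {x | x ∈ (T : Subgroup G) ∧ (x * t * x⁻¹ = t ∨ x * t * x⁻¹ = z * t)}
      one_mem' := ⟨one_mem _, .inl (by simp)⟩
      mul_mem' := by
        rintro a b ⟨ha, ha'⟩ ⟨hb, hb'⟩
        refine ⟨mul_mem ha hb, ?_⟩
        rw [show a * b * t * (a * b)⁻¹ = a * (b * t * b⁻¹) * a⁻¹ by group]
        rcases hb' with hb' | hb' <;> rw [hb']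
        · exact ha'
        · rw [cz a ha]
          rcases ha' with ha' | ha' <;> rw [ha']
          · exact .inr rfl
          · exact .inl (by rw [← mul_assoc, zz, one_mul])
      inv_mem' := by
        rintro a ⟨ha, ha'⟩
        refine ⟨inv_mem ha, ?_⟩
        rcases ha' with ha' | ha'
        · left; nth_rewrite 1 [← ha']; group
        · right
          have : t = z * (a * t * a⁻¹) := by rw [ha', ← mul_assoc, zz, one_mul]
          nth_rewrite 1 [this]
          rw [cz _ (inv_mem ha)]; group }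
  have cm : ∀ x : G, x * t * x⁻¹ = t → Commute t x := fun x e => (mul_inv_eq_iff_eq_mul.1 e).symm
  have hlt : S' < T := lt_of_le_of_ne (fun x hx => hx.1) fun eq => by
    have key : ∀ x ∈ (T : Subgroup G), orderOf x = 2 → Commute u x → Commute t x → x = z :=
      fun x hx ho c1 c2 => by
        have := F.rel h ho hx c1
        rcases h.three hz ht ho hzt (hzc' x hx) c2 hn with e | e | e
        · exact e
        · exact absurd (e ▸ this) hn
        · exact absurd (e ▸ this) nzt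
    rcases (show w ∈ S' from eq ▸ F.wT).2 with e1 | e1
    · exact F.wz (key w F.wT F.hw F.uw (cm w e1))
    · refine F.wzu ?_
      have := key (u * w) (mul_mem F.uT F.wT) (ord2_mul F.hu F.hw F.uw F.wu.symm)
        ((Commute.refl u).mul_right F.uw) (cm _ (by
          rw [show u * w * t * (u * w)⁻¹ = u * (w * t * w⁻¹) * u⁻¹ by group, e1, cz u F.uT, e,
            ← mul_assoc, zz, one_mul]))
      rw [(F.zc u F.uT).eq, ← this, ← mul_assoc, sq2 F.hu, one_mul]
  have := T.isPGroup'.isNilpotent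
  obtain ⟨x, hxT, hxS, hxN⟩ := GT.PG.exists_mem_normalizer_notMem hlt
  have tS' : t ∈ S' := ⟨hST tS, .inl (by simp)⟩
  have ht' := GT.conj_mem_of_mem_normalizer hxN tS'
  have ot' : orderOf (x * t * x⁻¹) = 2 := by rwa [GT.orderOf_conj]
  have nr' : ¬ r z (x * t * x⁻¹) := fun e => hn (by
    have := h.conj x⁻¹ _ _ e
    rwa [← (hzc' _ (inv_mem hxT)).eq, mul_inv_cancel_right,
      show x⁻¹ * (x * t * x⁻¹) * x⁻¹⁻¹ = t by group] at this)
  have nc : ¬ Commute t (x * t * x⁻¹) := fun c => by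
    rcases h.three hz ht ot' hzt (hzc' _ ht'.1) c hn with e | e | e
    · exact nr' (e ▸ h.eqv.1 _)
    · exact hxS ⟨hxT, .inl e⟩
    · exact hxS ⟨hxT, .inr e⟩
  have e3 := ht'.2.resolve_left fun e => nc (cm _ e)
  have sqz : ∀ y ∈ S, orderOf (y * y) = 2 → y * y = z := fun y hy ho => by
    have h1 : x⁻¹ * y * x ∈ S' :=
      GT.conj_mem_of_mem_normalizer' hxN ⟨hST hy, .inl (by rw [← (St y hy).eq]; group)⟩
    have h4 : Commute t (x⁻¹ * y * x * (x⁻¹ * y * x)) := cm _ (by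
      rw [show ∀ a : G, a * a * t * (a * a)⁻¹ = a * (a * t * a⁻¹) * a⁻¹ from fun a => by group]
      rcases h1.2 with e | e
      · rw [e, e]
      · rw [e, cz _ h1.1, e, ← mul_assoc, zz, one_mul])
    have h5 : Commute (x * t * x⁻¹) (y * y) := by
      simpa [mul_assoc] using h4.map (MulAut.conj x)
    rcases h.three hz ht ho hzt (Sz _ (mul_mem hy hy)) (St _ (mul_mem hy hy)) hn with e | e | e
    · exact e
    · exact absurd (e ▸ h5.symm) nc
    · refine absurd ?_ nc
      have := (hzc' _ ht'.1).mul_left (e ▸ h5.symm : Commute (z * t) (x * t * x⁻¹))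
      rwa [← mul_assoc, zz, one_mul] at this
  have exp2 : ∀ s ∈ S, s * s = 1 := fun s hs => by
    by_contra h1
    obtain ⟨k, hk⟩ := hSp ⟨s, hs⟩
    replace hk : s ^ 2 ^ k = 1 := congrArg Subtype.val hk
    obtain ⟨y, hy, ho⟩ : ∃ y ∈ S, orderOf (y * y) = 2 := by
      induction k generalizing s with
      | zero => exact absurd (by simpa using hk) (by rintro rfl; simp at h1)
      | succ k ih =>
        by_cases h4 : s * s * (s * s) = 1
        · exact ⟨s, hs, ord2 h4 h1⟩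
        · exact ih (s * s) (mul_mem hs hs) h4 (by rw [← sq, ← pow_mul, ← pow_succ', hk])
    have c1 : Commute t (u' * y * u'⁻¹) := F'.zc _ (mul_mem (mul_mem F'.uT (hST' hy))
      (inv_mem F'.uT))
    have h6 : u' * y * u'⁻¹ ∈ S := smax T' hST' _ (mul_mem (mul_mem F'.uT (hST' hy))
      (inv_mem F'.uT)) (by
        have := c1.mul_left (e' ▸ (Sz y hy).map (MulAut.conj u') :
          Commute (t * z) (u' * y * u'⁻¹))
        rwa [← mul_assoc, sq2 ht, one_mul] at this) c1
    have h7 : u' * y * u'⁻¹ * (u' * y * u'⁻¹) = t * z := by rw [← e', ← sqz y hy ho]; group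
    have := sqz _ h6 (h7 ▸ ord2_mul ht hz hzt.symm hzt1.symm)
    rw [h7] at this
    exact ne1 ht (by simpa using this)
  have h8 := exp2 _ (smax T hST (x * t * x⁻¹ * u) (mul_mem ht'.1 F.uT)
    (hzc' _ (mul_mem ht'.1 F.uT)) (cm _ (by
      rw [show ∀ a : G, a * u * t * (a * u)⁻¹ = a * (u * t * u⁻¹) * a⁻¹ from fun a => by group, e,
        cz _ ht'.1, e3, ← mul_assoc, zz, one_mul])))
  refine nr' (F.rel h ot' ht'.1 ?_)
  generalize x * t * x⁻¹ = a at h8 ot'
  show u * a = a * u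
  rw [← inv_eq_of_mul_eq_one_right h8, mul_inv_rev, inv2 F.hu, inv2 ot']

theorem Col.exists_se (h : Col r) (h2 : ∀ M : Subgroup G, M.Normal → M.index ≠ 2)
    (h3 : PRankAtLeast 2 3 G) :
    ∃ z, orderOf z = 2 ∧ (h.stab z = ⊤ ∨ IsStronglyEmbedded (h.stab z)) := by
  obtain ⟨T⟩ := (inferInstance : Nonempty (Sylow 2 G))
  obtain ⟨z, u, w, F⟩ := exists_fr h3 T
  have hT : (T : Subgroup G) ≤ h.stab z := fun x hx => h.mem_stab_of (h.eqv.1 z) (F.zc x hx)
  have key : ∀ s ∈ h.stab z, orderOf s = 2 → r s z := fun s hs ho => by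
    obtain ⟨n, hn, hle⟩ := Inv.ST.exists_le_smul_sylow T hT (Q := zpowers s)
      (IsPGroup.of_card (n := 1) (by rw [Nat.card_zpowers, ho]; rfl)) (zpowers_le.2 hs)
    obtain ⟨y, hy, rfl⟩ := hle (mem_zpowers s)
    have := h.central h2 h3 T F.hz (t := y) (by rw [← ho]; exact (GT.orderOf_conj y n).symm) F.zT
      F.zc hy
    exact h.eqv.3 (h.eqv.2 (h.conj n _ _ this)) hn
  refine ⟨z, F.hz, or_iff_not_imp_left.2 fun hne => ⟨hne, ?_, fun g hg => ?_⟩⟩
  · rw [even_iff_two_dvd, ← F.hz]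
    exact (h.stab z).orderOf_dvd_natCard (hT F.zT)
  · rw [← Nat.not_even_iff_odd, even_iff_two_dvd]
    intro hd
    obtain ⟨⟨s, hs, y, hy, rfl⟩, ho⟩ := exists_prime_orderOf_dvd_card' 2 hd
    rw [← orderOf_coe] at ho
    have ho' : orderOf y = 2 := by rw [← ho]; exact (GT.orderOf_conj y g).symm
    exact hg (h.eqv.3 (h.eqv.2 (h.conj g _ _ (key y hy ho'))) (key _ hs ho))

end Cfsg.Agent.AFro
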