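import Mathlib
import Cfsg.Agent.AFro.B

/-! The case where the derived group of `F` is abelian: a counting argument. -/

set_option autoImplicit false
set_option linter.unusedSectionVars false

namespace Cfsg.Agent.AFro

open Subgroup Finset
open scoped commutatorElement

local notation:75 H " ^ᶜ " g:76 => Subgroup.map (MulEquiv.toMonoidHom (MulAut.conj g)) H

variable {G : Type*} [Group G] [Finite G]

namespace Hyp
variable {p q : ℕ} {F : Type*} [Group F] {D : Set (Subgroup G)} (h : Hyp p q F D)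
variable {A B C : Subgroup G}
include h

theorem fpf (hab : IsMulCommutative (commutator F)) (hA : A ∈ D) (hB : B ∈ D) {x : G}
    (hx : x ∈ ⁅A ⊔ B, A ⊔ B⁆) (hn : x ∈ normalizer (A : Set G)) : x = 1 := by
  by_cases e : A = B
  · subst e
    exact mem_bot.1 (comm_le (N := ⊥) (by simp) le_normalizer_of_normal (h.comm hA) hx)
  obtain ⟨f⟩ := h.pair A hA B hB e
  obtain ⟨f⟩ := comm_equiv f
  refine mem_bot.1 (commutator_le.2 (fun u hu v hv => ?_)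
    (h.cq ((sub_mem hA).sup (sub_mem hB)) (h.qL hA hB) hA le_sup_left hx hn))
  have := congrArg Subtype.val (f.injective
    (a₁ := ⟨u, hu⟩ * ⟨v, hv⟩) (a₂ := ⟨v, hv⟩ * ⟨u, hu⟩) (by
      rw [map_mul, map_mul]; exact hab.is_comm.comm _ _))
  exact commutatorElement_eq_one_iff_commute.2 this

theorem coset_conj (hab : IsMulCommutative (commutator F)) (hB : B ∈ D) (hC : C ∈ D) {u b : G}
    (hu : u ∈ ⁅B ⊔ C, B ⊔ C⁆) (hb : b ∈ B) (h1 : b ≠ 1) : ∃ x, x * b * x⁻¹ = u * b := by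
  have hn := norm_comm (le_sup_left.trans (le_normalizer (H := B ⊔ C))) hb
  let φ : (⁅B ⊔ C, B ⊔ C⁆ : Subgroup G) → (⁅B ⊔ C, B ⊔ C⁆ : Subgroup G) := fun x =>
    ⟨x * (b * (x : G)⁻¹ * b⁻¹), mul_mem x.2 (GT.conj_mem_of_mem_normalizer hn (inv_mem x.2))⟩
  have : Function.Injective φ := fun x y e => by
    have e : (x : G) * (b * (x : G)⁻¹ * b⁻¹) = y * (b * (y : G)⁻¹ * b⁻¹) := congrArg Subtype.val e
    have h2 : (y : G)⁻¹ * x ∈ centralizer (zpowers b : Set G) := by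
      rw [GT.centralizer_zpowers, mem_centralizer_singleton_iff]
      calc _ = (y : G)⁻¹ * (x * (b * (x : G)⁻¹ * b⁻¹)) * (b * x) := by group
        _ = _ := by rw [e]; group
    rw [h.zp hB hb h1] at h2
    have := h.fpf hab hB hC (mul_mem (inv_mem y.2) x.2) (centralizer_le_normalizer _ h2)
    exact Subtype.ext (inv_mul_eq_one.1 this).symm
  obtain ⟨x, hx⟩ := Finite.surjective_of_injective this ⟨u, hu⟩
  refine ⟨x, ?_⟩
  rw [← show (x : G) * (b * (x : G)⁻¹ * b⁻¹) = u from congrArg Subtype.val hx]; group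

theorem isConj_iff (hab : IsMulCommutative (commutator F)) (hA : A ∈ D) {a : G} (ha : a ∈ A)
    (ha1 : a ≠ 1) (hB : B ∈ D) (hC : C ∈ D) {u b : G} (hu : u ∈ ⁅B ⊔ C, B ⊔ C⁆) (hb : b ∈ B) :
    IsConj a (u * b) ↔ IsConj a b := by
  by_cases h1 : b = 1
  · subst h1
    refine ⟨fun e => ?_, fun e => absurd (isConj_one_left.1 e) ha1⟩
    obtain ⟨g, e⟩ := _root_.isConj_iff.1 e
    have : u ∈ (A ^ᶜ g) ⊓ ⁅B ⊔ C, B ⊔ C⁆ := ⟨⟨a, ha, e.trans (mul_one u)⟩, hu⟩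
    rw [h.inf_q (h.inv A hA g) (h.qL hB hC), mem_bot] at this
    exact absurd (by simpa [this] using e) ha1
  obtain ⟨x, hx⟩ := h.coset_conj hab hB hC hu hb h1
  have : IsConj b (u * b) := _root_.isConj_iff.2 ⟨x, hx⟩
  exact ⟨fun e => e.trans this.symm, fun e => e.trans this⟩

theorem pt (hA : A ∈ D) {a : G} (ha : a ∈ A) (ha1 : a ≠ 1) {c : G} (e : IsConj a c) :
    c ≠ 1 ∧ ∃ C ∈ D, c ∈ C := by
  obtain ⟨g, rfl⟩ := _root_.isConj_iff.1 e
  exact ⟨by simpa using ha1, _, h.inv A hA g, a, ha, rfl⟩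

theorem dec2 (hB : B ∈ D) (hC : C ∈ D) {c : G} (hc : c ∈ C) :
    ∃ u ∈ ⁅B ⊔ C, B ⊔ C⁆, u⁻¹ * c ∈ B := by
  obtain ⟨u, hu, b, hb, rfl⟩ :=
    h.dec ((sub_mem hB).sup (sub_mem hC)) hB le_sup_left (mem_sup_right hc)
  exact ⟨u, hu, by simpa using hb⟩

theorem mul_conj (hab : IsMulCommutative (commutator F)) (hgen : sSup D = ⊤) (hA : A ∈ D) {a : G}
    (ha : a ∈ A) (ha1 : a ≠ 1) (hB : B ∈ D) (hC : C ∈ D) {v c₀ : G} (hv : v ∈ ⁅B ⊔ C, B ⊔ C⁆)
    (hc₀ : IsConj a c₀) : IsConj a (c₀ * v⁻¹) := by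
  classical
  by_cases hv1 : v = 1
  · simpa [hv1] using hc₀
  have := Fintype.ofFinite G
  have := Fintype.ofFinite (Subgroup G)
  let Cl : Finset G := univ.filter (IsConj a ·)
  let Df : Finset (Subgroup G) := univ.filter (· ∈ D)
  have mCl : ∀ c, c ∈ Cl ↔ IsConj a c := fun c => by simp [Cl]
  have mDf : ∀ B, B ∈ Df ↔ B ∈ D := fun c => by simp [Df]
  let T : G → ℤ := fun y => ∑ B ∈ Df, if y ∈ B then 1 else 0
  let e : Subgroup G → ℤ := fun B => ∑ c ∈ Cl, if c ∈ B then 1 else 0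
  have T1 : ∀ y, y ≠ 1 → ∀ C ∈ D, y ∈ C → T y = 1 := fun y hy C hC hyC => by
    simp only [T]
    rw [sum_eq_single_of_mem C ((mDf C).2 hC) fun B hB hne =>
      if_neg fun hyB => hne (h.eq_of_mem ((mDf B).1 hB) hC hyB hyC hy), if_pos hyC]
  have T0 : ∀ y, (∀ C ∈ D, y ∉ C) → T y = 0 := fun y hy =>
    sum_eq_zero fun B hB => if_neg (hy B ((mDf B).1 hB))
  have c1 : ∀ B ∈ D, ∀ C ∈ D, ∀ u ∈ ⁅B ⊔ C, B ⊔ C⁆, ∀ x, u⁻¹ * x ∈ B →
      (∑ c ∈ Cl, if c⁻¹ * x ∈ B then (1 : ℤ) else 0) = e B ∧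
      (∑ c ∈ Cl, if c * x ∈ B then (1 : ℤ) else 0) = e B := fun B hB C hC u hu x hx => by
    have k1 : ∀ c, c⁻¹ * x ∈ B ↔ u⁻¹ * c ∈ B := fun c => by
      rw [← inv_mem_iff, ← mul_mem_cancel_left hx]; simp [mul_assoc]
    have k2 : ∀ c, c * x ∈ B ↔ c * u ∈ B := fun c => by
      rw [← mul_mem_cancel_right (inv_mem hx)]; simp [mul_assoc]
    have k3 : ∀ b ∈ B, IsConj a (b * u⁻¹) ↔ IsConj a b := fun b hb => by
      rw [← h.isConj_iff hab hA ha ha1 hB hC (GT.conj_mem_of_mem_normalizer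
        (norm_comm (le_sup_left.trans (le_normalizer (H := B ⊔ C))) hb) (inv_mem hu)) hb]
      simp
    simp only [e, sum_boole, k1, k2, Nat.cast_inj]
    constructor
    · refine card_nbij' (u⁻¹ * ·) (u * ·) (fun c hc => ?_) (fun c hc => ?_) (fun c _ => by simp)
        (fun c _ => by simp) <;> simp only [coe_filter, Set.mem_ofPred_eq, mCl] at hc ⊢
      · exact ⟨(h.isConj_iff hab hA ha ha1 hB hC hu hc.2).1 (by simpa using hc.1), hc.2⟩
      · exact ⟨(h.isConj_iff hab hA ha ha1 hB hC hu hc.2).2 hc.1, by simpa using hc.2⟩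
    · refine card_nbij' (· * u) (· * u⁻¹) (fun c hc => ?_) (fun c hc => ?_) (fun c _ => by simp)
        (fun c _ => by simp) <;> simp only [coe_filter, Set.mem_ofPred_eq, mCl] at hc ⊢
      · exact ⟨(k3 _ hc.2).1 (by simpa using hc.1), hc.2⟩
      · exact ⟨(k3 _ hc.2).2 hc.1, by simpa using hc.2⟩
  let f : G → ℤ := fun x => ∑ c ∈ Cl, T (c⁻¹ * x)
  have hf : ∀ x, f x = ∑ c ∈ Cl, T (c * x) := fun x => by
    simp only [f, T]
    rw [sum_comm, sum_comm (s := Cl)]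
    refine sum_congr rfl fun B hB => ?_
    have hB := (mDf B).1 hB
    by_cases hx : ∃ C ∈ D, ∃ u ∈ ⁅B ⊔ C, B ⊔ C⁆, u⁻¹ * x ∈ B
    · obtain ⟨C, hC, u, hu, hx⟩ := hx
      rw [(c1 B hB C hC u hu x hx).1, (c1 B hB C hC u hu x hx).2]
    rw [sum_eq_zero, sum_eq_zero] <;> refine fun c hc => if_neg fun h1 => hx ?_ <;>
      obtain ⟨-, C, hC, hc⟩ := h.pt hA ha ha1 ((mCl c).1 hc)
    · obtain ⟨u, hu, h2⟩ := h.dec2 hB hC (inv_mem hc)
      exact ⟨C, hC, u, hu, by simpa [mul_assoc] using mul_mem h2 h1⟩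
    · obtain ⟨u, hu, h2⟩ := h.dec2 hB hC hc
      exact ⟨C, hC, u, hu, by simpa [mul_assoc] using mul_mem h2 h1⟩
  have fpt : ∀ C ∈ D, ∀ y ∈ C, f y = Cl.card := fun C hC y hy => by
    simp only [f, T]
    rw [sum_comm, sum_congr rfl (g := e) fun B hB => by
      obtain ⟨u, hu, h2⟩ := h.dec2 ((mDf B).1 hB) hC hy
      exact (c1 B ((mDf B).1 hB) C hC u hu y h2).1]
    simp only [e]
    rw [sum_comm, card_eq_sum_ones, Nat.cast_sum]
    refine sum_congr rfl fun c hc => ?_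
    obtain ⟨h1, C, hC, hc⟩ := h.pt hA ha ha1 ((mCl c).1 hc)
    exact T1 c h1 C hC hc
  let W : G → ℤ := fun x => f x - Cl.card * T x
  have W0 : ∀ y, y ≠ 1 → ∀ C ∈ D, y ∈ C → W y = 0 := fun y hy C hC hyC => by
    simp only [W]; rw [fpt C hC y hyC, T1 y hy C hC hyC, mul_one, sub_self]
  have Tn : ∀ y, 0 ≤ T y := fun y => sum_nonneg fun _ _ => by split_ifs <;> norm_num
  have Wn : ∀ y, y ≠ 1 → 0 ≤ W y := fun y hy => by
    by_cases h1 : ∃ C ∈ D, y ∈ C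
    · obtain ⟨C, hC, h1⟩ := h1
      exact (W0 y hy C hC h1).ge
    · simp only [W]
      rw [T0 y fun C hC h2 => h1 ⟨C, hC, h2⟩, mul_zero, sub_zero]
      exact sum_nonneg fun _ _ => Tn _
  have Wv : 0 < W v := by
    simp only [W]
    rw [T0 v fun E hE h2 => hv1 (mem_bot.1 ((h.inf_q hE (h.qL hB hC)).le ⟨h2, hv⟩)), mul_zero,
      sub_zero]
    obtain ⟨g, -, rfl⟩ := h.conj hA hB le_top le_top
    have h1 : g * a * g⁻¹ ∈ A ^ᶜ g := ⟨a, ha, rfl⟩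
    refine sum_pos' (fun _ _ => Tn _) ⟨v * (g * a * g⁻¹), (mCl _).2
      ((h.isConj_iff hab hA ha ha1 hB hC hv h1).2 (_root_.isConj_iff.2 ⟨g, rfl⟩)), ?_⟩
    rw [show (v * (g * a * g⁻¹))⁻¹ * v = (g * a * g⁻¹)⁻¹ by group,
      T1 _ (by rw [Ne, inv_eq_one]; simpa using ha1) _ hB (inv_mem h1)]
    exact one_pos
  have Ws : ∑ x, W x = 0 := by
    simp only [W, f]
    rw [sum_sub_distrib, sum_comm, ← mul_sum, sub_eq_zero, ← nsmul_eq_mul, ← sum_const]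
    exact sum_congr rfl fun c _ => Equiv.sum_comp (Equiv.mulLeft c⁻¹) T
  have hW : ∑ c ∈ Cl, W (c⁻¹ * c₀) = ∑ c ∈ Cl, W (c * c₀) := by
    simp only [W]
    rw [sum_sub_distrib, sum_sub_distrib, ← mul_sum, ← mul_sum, ← hf c₀, sub_left_inj,
      sum_congr rfl fun c _ => hf (c⁻¹ * c₀)]
    simp only [f]
    rw [sum_comm (f := fun c c' => T (c'⁻¹ * (c * c₀)))]
    refine sum_congr rfl fun c _ => sum_nbij' (fun d => c * d * c⁻¹) (fun d => c⁻¹ * d * c)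
      (fun d hd => ?_) (fun d hd => ?_) (fun d _ => by group) (fun d _ => by group)
      (fun d _ => by congr 1; group)
    · exact (mCl _).2 (((mCl d).1 hd).trans (_root_.isConj_iff.2 ⟨c, rfl⟩))
    · exact (mCl _).2 (((mCl d).1 hd).trans (_root_.isConj_iff.2 ⟨c⁻¹, by simp⟩))
  have hW0 : ∑ c ∈ Cl, W (c * c₀) = 0 := sum_eq_zero fun c hc => by
    obtain ⟨h1, C₀, hC₀, h2⟩ := h.pt hA ha ha1 hc₀
    obtain ⟨-, E, hE, h3⟩ := h.pt hA ha ha1 ((mCl c).1 hc)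
    obtain ⟨u, hu, h4⟩ := h.dec2 hC₀ hE h3
    have h5 := (h.isConj_iff hab hA ha ha1 hC₀ hE hu h4).1 (by simpa using (mCl c).1 hc)
    have h6 : u⁻¹ * c * c₀ ≠ 1 := fun e => by
      obtain ⟨g, hg⟩ := _root_.isConj_iff.1 (hc₀.symm.trans h5)
      exact h.not_inv hgen hC₀ h2 h1 g (hg.trans (eq_inv_of_mul_eq_one_left e))
    obtain ⟨x, hx⟩ := h.coset_conj hab hC₀ hE hu (mul_mem h4 h2) h6
    have hx : x * (u⁻¹ * c * c₀) * x⁻¹ = c * c₀ := by rw [hx]; group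
    exact W0 _ (hx ▸ by simpa using h6) _ (h.inv C₀ hC₀ x) ⟨_, mul_mem h4 h2, hx⟩
  let I := Cl.image (·⁻¹ * c₀)
  have hI : ∑ x ∈ I, W x = 0 := by
    rw [sum_image fun x _ y _ e => by simpa using e, hW, hW0]
  have h1I : (1 : G) ∈ I := mem_image.2 ⟨c₀, (mCl _).2 hc₀, inv_mul_cancel _⟩
  rw [← sum_add_sum_compl I, hI, zero_add, sum_eq_zero_iff_of_nonneg fun x hx =>
    Wn x fun e => mem_compl.1 hx (e ▸ h1I)] at Ws
  obtain ⟨c, hc, e⟩ := mem_image.1 (not_not.1 fun hh => Wv.ne' (Ws v (mem_compl.2 hh)))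
  rw [← e]
  simpa using (mCl c).1 hc

theorem p1 (hab : IsMulCommutative (commutator F)) (hgen : sSup D = ⊤) (hA : A ∈ D) {x : G}
    (hx : x ∈ commutator G) : ∃ C ∈ D, x ∈ ⁅A ⊔ C, A ⊔ C⁆ := by
  obtain ⟨a, ha, ha1⟩ := h.ex hA
  let K : Subgroup G :=
    { carrier := {g | ∀ c, IsConj a c ↔ IsConj a (c * g)}
      one_mem' := fun c => by rw [mul_one]
      mul_mem' := fun {x y} hx hy c => by rw [← mul_assoc, ← hy, ← hx]
      inv_mem' := fun {x} hx c => by rw [hx (c * x⁻¹), inv_mul_cancel_right] }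
  have hKn : K.Normal := ⟨fun k hk g c => by
    have h1 : ∀ y, IsConj a (g * y * g⁻¹) ↔ IsConj a y := fun y =>
      ⟨fun e => e.trans (_root_.isConj_iff.2 ⟨g, rfl⟩).symm,
        fun e => e.trans (_root_.isConj_iff.2 ⟨g, rfl⟩)⟩
    rw [show c * (g * k * g⁻¹) = g * (g⁻¹ * c * g * k) * g⁻¹ by group, h1, ← hk,
      ← h1 (g⁻¹ * c * g), show g * (g⁻¹ * c * g) * g⁻¹ = c by group]⟩
  have hQ : ∀ C ∈ D, ⁅A ⊔ C, A ⊔ C⁆ ≤ K := fun C hC v hv c =>
    ⟨fun e => by simpa using h.mul_conj hab hgen hA ha ha1 hA hC (inv_mem hv) e,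
      fun e => by simpa using h.mul_conj hab hgen hA ha ha1 hA hC hv e⟩
  have hAK : A ⊓ K = ⊥ := by
    by_contra e
    exact ha1 (isConj_one_left.1 (by
      simpa using (le_of_inf h.hp (h.card A hA) e (inv_mem ha) a).1 (IsConj.refl a)))
  have hx : x ∈ K := comm_le (X := ⊤) (hgen.ge.trans (sSup_le fun C hC => le_sup_right.trans
    ((h.sub_le ((sub_mem hA).sup (sub_mem hC)) hA le_sup_left).trans
      (sup_le_sup_right (hQ C hC) A)))) le_normalizer_of_normal (h.comm hA) hx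
  obtain ⟨-, C, hC, hc⟩ := h.pt hA ha ha1 ((hx a).1 (IsConj.refl a))
  obtain ⟨u, hu, b, hb, rfl⟩ := h.dec ((sub_mem hA).sup (sub_mem hC)) hA le_sup_left
    ((mul_mem_cancel_left (mem_sup_left ha)).1 (mem_sup_right hc))
  have : b ∈ A ⊓ K := ⟨hb, (mul_mem_cancel_left (hQ C hC hu)).1 hx⟩
  rw [hAK, mem_bot] at this
  exact ⟨C, hC, by rwa [this, mul_one]⟩

theorem p1_main (hab : IsMulCommutative (commutator F)) (hG : ¬ IsMulCommutative G)
    (hgen : sSup D = ⊤) :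
    Odd (Nat.card (G ⧸ center G)) ∧ ∃ H : Subgroup (G ⧸ center G), IsFrobeniusComplement H := by
  obtain ⟨A, hA⟩ : ∃ A, A ∈ D := by
    by_contra! h1
    have : (⊤ : Subgroup G) ≤ ⊥ := hgen.ge.trans (sSup_le fun B hB => absurd hB (h1 B))
    exact hG ⟨⟨fun a b => by rw [mem_bot.1 (this (mem_top a)), one_mul, mul_one]⟩⟩
  refine h.frob hG hgen (fun x => ?_) fun A hA x hx hn => ?_
  · obtain ⟨C, hC, h1⟩ := h.p1 hab hgen hA x.2
    obtain ⟨k, hk⟩ := h.qL hA hC ⟨x, h1⟩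
    exact ⟨k, Subtype.ext (congrArg Subtype.val hk :)⟩
  · obtain ⟨C, hC, h1⟩ := h.p1 hab hgen hA hx
    exact h.fpf hab hA hC h1 hn ▸ one_mem _

end Hyp

end Cfsg.Agent.AFro
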