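import Mathlib
import Cfsg.Agent.AFro.E
import Cfsg.Agent.AFro.EG
import Cfsg.Agent.Blk.ZStar
import Cfsg.Agent.S1221
import Cfsg.Agent.GT.PPrimeCore

/-! Involutions of the central quotient of a minimal counterexample. -/

set_option autoImplicit false
set_option linter.unusedSectionVars false

namespace Cfsg.Agent.AFro

open Subgroup
open scoped commutatorElement

local notation:75 H " ^ᶜ " g:76 => Subgroup.map (MulEquiv.toMonoidHom (MulAut.conj g)) H

variable {G : Type*} [Group G] [Finite G]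

theorem cnorm {z : G} (hz : z ∈ center G) (H : Subgroup G) : z ∈ normalizer (H : Set G) :=
  centralizer_le_normalizer _ (center_le_centralizer _ hz)

theorem mk_mem_norm {s : G} {H : Subgroup G} : QuotientGroup.mk' (center G) s ∈
    (normalizer (H : Set G)).map (QuotientGroup.mk' (center G)) ↔ s ∈ normalizer (H : Set G) := by
  rw [← mem_comap, GT.comap_map_mk', sup_eq_left.2 fun z hz => cnorm hz H]

theorem mk_ord {s : G} : orderOf (QuotientGroup.mk' (center G) s) = 2 ↔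
    s * s ∈ center G ∧ s ∉ center G := by
  rw [orderOf_eq_prime_iff, sq, ← map_mul]
  exact and_congr (QuotientGroup.eq_one_iff _) (QuotientGroup.eq_one_iff _).not

theorem mk_comm {s t : G} : Commute (QuotientGroup.mk' (center G) s) (QuotientGroup.mk' _ t) ↔
    ⁅s, t⁆ ∈ center G := by
  rw [← mk_conj_iff, mul_inv_eq_iff_eq_mul]; rfl

theorem norm_conj_of {s t : G} {A : Subgroup G} (h : ⁅s, t⁆ ∈ center G)
    (ht : t ∈ normalizer (A : Set G)) : t ∈ normalizer ((A ^ᶜ s : Subgroup G) : Set G) := by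
  rw [← mul_mem_cancel_left (cnorm h _), GT.normalizer_map_conj, commutatorElement_def,
    inv_mul_cancel_right, GT.conj_mem_map_conj]
  exact ht

/-- The points fixed by `s` lie in `X`. -/
def Nat' (D : Set (Subgroup G)) (s : G) (X : Subgroup G) : Prop :=
  ∀ B ∈ D, s ∈ normalizer (B : Set G) → B ≤ X

namespace Min
variable {p q : ℕ} {F : Type*} [Group F] {D : Set (Subgroup G)} (h : Min p q F D)
variable {A B C X Y S N : Subgroup G} {s t : G}
include h

theorem cent_t (ht : t * t ∈ center G) (hB : B ∈ D) (hn : t ∈ normalizer (B : Set G)) :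
    t ∈ centralizer (B : Set G) := h.cent_of_sq h.hgen hB hn (center_le_centralizer _ ht)

theorem fix_conj (hX : Sub D X) (hq : IsPGroup q (⁅X, X⁆ : Subgroup G)) (hAX : A ≤ X)
    (ht : t * t ∈ center G) (h1 : t ∈ normalizer (X : Set G)) (h2 : t ∈ normalizer (A : Set G))
    {x : G} (hx : x ∈ ⁅X, X⁆) :
    t ∈ normalizer ((A ^ᶜ (x * (t * x * t⁻¹)) : Subgroup G) : Set G) := by
  have h3 := GT.conj_mem_of_mem_normalizer (mem_norm_comm h1) hx
  have h4 := h.st h.hna hX hq (commutator_mem_commutator h3 hx)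
  have h5 := h4 _ (comm_self_le X (mul_mem hx h3))
  rw [GT.normalizer_map_conj, GT.mem_map_conj, show (x * (t * x * t⁻¹))⁻¹ * t * (x * (t * x * t⁻¹)) =
    (x * (t * x * t⁻¹))⁻¹ * (t * x * t⁻¹ * (t * t * x) * t⁻¹ * t⁻¹) * t by group,
    ← mem_center_iff.1 ht x, show t * x * t⁻¹ * (x * (t * t)) * t⁻¹ * t⁻¹ =
    ⁅t * x * t⁻¹, x⁆ * (x * (t * x * t⁻¹)) by simp only [commutatorElement_def]; group, ← h5,
    inv_mul_cancel_left]
  exact mul_mem (centralizer_le_normalizer _ (GT.centralizer_anti hAX h4)) h2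

theorem invert (hX : Sub D X) (hq : IsPGroup q (⁅X, X⁆ : Subgroup G)) (hA : A ∈ D) (hAX : A ≤ X)
    (ht : t * t ∈ center G) (h1 : t ∈ normalizer (X : Set G)) (h2 : t ∈ normalizer (A : Set G))
    (hu : ∀ B ∈ D, B ≤ X → t ∈ normalizer (B : Set G) → B = A) {x : G} (hx : x ∈ ⁅X, X⁆) :
    x * (t * x * t⁻¹) ∈ ⁅⁅X, X⁆, ⁅X, X⁆⁆ := by
  have h3 := mul_mem hx (GT.conj_mem_of_mem_normalizer (mem_norm_comm h1) hx)
  exact h.cq hX hq hA hAX h3 (GT.map_conj_eq_self_iff.1 (hu _ (h.inv A hA _)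
    (GT.map_conj_le_of_mem hAX (comm_self_le X h3)) (h.fix_conj hX hq hAX ht h1 h2 hx)))

theorem inv_sub (ht : t * t ∈ center G) (hY : Sub D Y) (hn : Nat' D t Y) :
    t ∈ normalizer (Y : Set G) := by
  refine GT.mem_normalizer_of_map_conj_le (GT.map_conj_le_iff.2 (hY.le fun B hB h1 => ?_))
  rw [← GT.map_conj_le_iff]
  have hB' := h.inv B hB t
  obtain ⟨C, hC, h2, h3⟩ := h.fix ((sub_mem hB).sup (sub_mem hB')) (h.qL hB hB') hB le_sup_left ht
    (GT.map_conj_eq_self_iff.1 (by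
      rw [GT.map_conj_sup, GT.map_conj_map_conj, GT.map_conj_eq_of_mem_norm (cnorm ht B), sup_comm]))
  by_cases e : B = C
  · subst e
    rwa [GT.map_conj_eq_of_mem_norm h3]
  exact le_sup_right.trans ((h.lin hB hB' hB hC e le_sup_left h2).ge.trans (sup_le h1 (hn C hC h3)))

theorem bar_bot (N : Subgroup (G ⧸ center G)) [N.Normal]
    (hN : N.comap (QuotientGroup.mk' _) ≤ center G) : N = ⊥ := by
  rw [← GT.map_comap_mk' N, GT.map_mk'_eq_bot_iff.2 hN]

theorem bar_solv (N : Subgroup (G ⧸ center G)) [N.Normal] (hs : Group.IsSolvable N) : N = ⊥ := by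
  have := GT.CopAct.isSolvable_of_isMulCommutative (A := center G) inferInstance
  refine h.bar_bot N (h.cent_solv (Group.isSolvable_of_ker_le_range
    (inclusion (GT.le_comap_mk' N)) ((QuotientGroup.mk' _).subgroupComap N) fun x hx => ?_))
  exact ⟨⟨x, (QuotientGroup.eq_one_iff _).1 (congrArg Subtype.val hx)⟩, rfl⟩

theorem bar_center : center (G ⧸ center G) = ⊥ :=
  h.bar_solv _ (GT.CopAct.isSolvable_of_isMulCommutative inferInstance)

theorem bar_odd : oddCore (G ⧸ center G) = ⊥ :=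
  h.bar_solv _ (S0205.result GT.odd_card_oddCore)

theorem ex_pt : ∃ A, A ∈ D := by
  by_contra! h1
  refine h.ce (IsPGroup.of_bot.to_le ((comm_self_le _).trans ?_))
  exact h.hgen.ge.trans (sSup_le fun B hB => absurd hB (h1 B))

theorem two_pts (ht : t * t ∈ center G) (ht1 : t ∉ center G) (hA : A ∈ D) : ¬ Nat' D t A := by
  intro hu
  have fx : ∀ s, s * s ∈ center G → Nat' D s A → s ∈ normalizer (A : Set G) := fun s hs hu =>
    h.inv_sub hs (sub_mem hA) hu
  have : IsIsolatedInvolution (QuotientGroup.mk' (center G) t) := by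
    refine ⟨mk_ord.2 ⟨ht, ht1⟩, fun g hg => ?_⟩
    obtain ⟨g, rfl⟩ := QuotientGroup.mk'_surjective _ g
    rw [← map_inv, ← map_mul, ← map_mul] at hg ⊢
    have hs : g * t * g⁻¹ * (g * t * g⁻¹) ∈ center G := by
      simpa [mul_assoc] using (inferInstance : (center G).Normal).conj_mem _ ht g
    have hu' : Nat' D (g * t * g⁻¹) (A ^ᶜ g) := fun B hB hn => GT.le_map_conj_iff.2
      (hu _ (h.inv B hB _) (by rwa [GT.normalizer_map_conj, GT.mem_map_conj_inv]))
    have hA' := h.inv A hA g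
    generalize g * t * g⁻¹ = s at hg hs hu'
    generalize A ^ᶜ g = A' at hu' hA'
    have h1 := GT.map_conj_eq_self_iff.1 (h.eq_of_le (h.inv A hA s) hA (hu _ (h.inv A hA s)
      (norm_conj_of (mk_comm.1 hg.symm) (fx t ht hu))))
    obtain rfl := h.eq_of_le hA hA' (hu' A hA h1)
    have h2 : t⁻¹ * s ∈ center G := h.le_center h.hgen (S := zpowers _) (fun B hB => zpowers_le.2
      (h.cent_t (by
        rw [show t⁻¹ * s * (t⁻¹ * s) = (t * t)⁻¹ * (⁅t, s⁆ * (s * s)) by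
          simp only [commutatorElement_def]; group]
        exact mul_mem (inv_mem ht) (mul_mem (mk_comm.1 hg) hs)) hB ?_)) (mem_zpowers _)
    · exact (QuotientGroup.eq.2 h2).symm
    have hL := (sub_mem hA).sup (sub_mem hB)
    obtain ⟨x, hx, e⟩ := h.conj' hL hA hB le_sup_left le_sup_right
    have k : ∀ s, s * s ∈ center G → Nat' D s A → B ^ᶜ s = A ^ᶜ x⁻¹ := fun s hs hu => by
      have := h.st h.hna hL (h.qL hA hB) (h.invert hL (h.qL hA hB) hA le_sup_left hs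
        (h.inv_sub hs hL fun C hC hn => (hu C hC hn).trans le_sup_left) (fx s hs hu)
        (fun C hC _ hn => h.eq_of_le hC hA (hu C hC hn)) hx)
      rw [← e, GT.map_conj_map_conj, GT.map_conj_eq_map_conj_iff, inv_inv,
        show x * (s * x) = x * (s * x * s⁻¹) * s by group]
      exact mul_mem (centralizer_le_normalizer _ (GT.centralizer_anti le_sup_left this)) (fx s hs hu)
    exact GT.map_conj_eq_map_conj_iff.1 ((k s hs hu').trans (k t ht hu).symm)
  have := this.mem_center h.bar_odd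
  rw [h.bar_center, mem_bot] at this
  exact ht1 ((QuotientGroup.eq_one_iff _).1 this)

theorem nat_gen (ht : t * t ∈ center G) : Nat' D t (gen D (centralizer {t})) := fun _ hB hn =>
  le_gen hB (GT.le_centralizer_singleton_iff.2 (h.cent_t ht hB hn))

omit h in
theorem gen_le_nat (hn : Nat' D t Y) : gen D (centralizer {t}) ≤ Y :=
  gen_le_iff.2 fun B hB h1 =>
    hn B hB (centralizer_le_normalizer _ (GT.le_centralizer_singleton_iff.1 h1))

theorem ex_nat (ht : t * t ∈ center G) (ht1 : t ∉ center G) : ∃ X, Mx D X ∧ Nat' D t X := by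
  obtain ⟨X, h1, hX⟩ := exists_mx (sub_gen (D := D) (H := centralizer {t})) fun e => ht1 (by
    rw [← GT.centralizer_top]
    exact GT.le_centralizer_singleton_iff.1 (e.ge.trans gen_le))
  exact ⟨X, hX, fun B hB hn => (h.nat_gen ht B hB hn).trans h1⟩

theorem ex_fix (ht : t * t ∈ center G) : ∃ A ∈ D, t ∈ normalizer (A : Set G) := by
  obtain ⟨A, hA⟩ := h.ex_pt
  obtain ⟨B, hB, e⟩ := fix_odd ht (T := {B | B ∈ D ∧ B ≤ ⊤}) (fun B hB => ⟨h.inv B hB.1 t, le_top⟩)
    (by rw [h.ncard_pts hA le_top, relIndex_top_right]; exact h.odd_index hA)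
  exact ⟨B, hB.1, e⟩

theorem inv_norm (ht : t * t ∈ center G) (hY : Sub D Y) (hn : Nat' D t Y) {j : G}
    (ho : Odd (orderOf j)) (h1 : j ∈ centralizer (gen D (centralizer {t}) : Set G))
    (h2 : t * j * t⁻¹ = j⁻¹) : j ∈ normalizer (Y : Set G) := by
  obtain ⟨k, hk⟩ := ho
  have e1 : j ^ (k + 1) * j ^ (k + 1) = j := by
    rw [← pow_add, show k + 1 + (k + 1) = orderOf j + 1 by omega, pow_succ, pow_orderOf_eq_one,
      one_mul]
  have e2 : t * j ^ (k + 1) * t⁻¹ = (j ^ (k + 1))⁻¹ := by rw [← conj_pow, h2, inv_pow]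
  have e3 := pow_mem h1 (k + 1)
  generalize j ^ (k + 1) = η at e1 e2 e3
  have e4 : t * j = η⁻¹ * t * η := by rw [← e2, ← e1]; group
  rw [← mul_mem_cancel_left (h.inv_sub ht hY hn)]
  refine h.inv_sub (by
    rw [e4]; simpa [mul_assoc] using (inferInstance : (center G).Normal).conj_mem' _ ht η) hY
    fun B hB h3 => ?_
  have h4 : t ∈ normalizer ((B ^ᶜ η : Subgroup G) : Set G) := by
    rwa [GT.normalizer_map_conj, GT.mem_map_conj, ← e4]
  have h5 := centralizer_le_normalizer _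
    (GT.centralizer_anti (h.nat_gen ht _ (h.inv B hB η) h4) (inv_mem e3))
  rw [← GT.map_conj_inv_map_conj B η, GT.map_conj_eq_of_mem_norm h5]
  exact hn _ (h.inv B hB η) h4

theorem uniq_aux (ht : t * t ∈ center G) (hX : Mx D X) (hY : Mx D Y) (hne : X ≠ Y)
    (h1 : Nat' D t X) (h2 : Nat' D t Y) : X ≤ normalizer
      ((⁅gen D (centralizer {t}), gen D (centralizer {t})⁆ : Subgroup G) : Set G) := by
  obtain ⟨A, hA, hAt⟩ := h.ex_fix ht
  have hT := gen_le_nat h1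
  have hA' := h.nat_gen ht A hA hAt
  have hAX := hA'.trans hT
  refine (h.sub_le hX.1.1 hA hAX).trans (sup_le (le_normalizer_iff_commutator_le_left.2
    (commutator_le.2 fun c hc x hx => ?_)) (norm_comm (hA'.trans le_normalizer)))
  have hZ := h.mst hX
  have hZ' := hZ.trans (GT.centralizer_anti (comm_self_le X))
  have hc' := commutator_mono hT hT hc
  have tX := mem_norm_comm (h.inv_sub ht hX.1.1 h1)
  have hxt := GT.conj_mem_of_mem_normalizer tX hx
  have hζ := commutator_mem_commutator hc' hx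
  have hζt := commutator_mem_commutator hc' hxt
  have e1 : t * ⁅c, x⁆ * t⁻¹ = ⁅c, t * x * t⁻¹⁆ := by
    rw [conjugate_commutatorElement, ← mem_centralizer_singleton_iff.1
      (gen_le (comm_self_le _ hc)), mul_inv_cancel_right]
  obtain ⟨c', hc'', e⟩ := h.conj' sub_gen hA (h.inv A hA _) hA' (h.nat_gen ht _ (h.inv A hA _)
    (h.fix_conj hX.1.1 (h.mq hX) hAX ht (h.inv_sub ht hX.1.1 h1) hAt hx))
  have h3 := commutator_mono hT hT hc''
  have h4 := h.cq hX.1.1 (h.mq hX) hA hAX (mul_mem (inv_mem h3) (mul_mem hx hxt))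
    (GT.map_conj_eq_map_conj_iff.1 e.symm)
  have e2 : ⁅c, x⁆ * ⁅c, t * x * t⁻¹⁆ = ⁅c, c'⁆ := by
    rw [← bil_r hZ' hc' hx hxt, ← comm_drop (z := 1) hc' h3 (comm_self_le _ h4) (one_mem _) (hZ' h4),
      one_mul, ← hZ' h4 c' h3, mul_inv_cancel_left]
  rw [← e1] at e2 hζt
  have h5 := comm_self_le _ (commutator_mem_commutator hc hc'')
  rw [← e2] at h5
  generalize ⁅c, x⁆ = ζ at *
  have e3 := hZ' hζ _ (comm_self_le _ hζt)
  have hj := mul_mem hζ (inv_mem hζt)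
  have e4 : t * (ζ * (t * ζ * t⁻¹)⁻¹) * t⁻¹ = (ζ * (t * ζ * t⁻¹)⁻¹)⁻¹ := by
    rw [show t * (ζ * (t * ζ * t⁻¹)⁻¹) * t⁻¹ = t * ζ * t⁻¹ * (t * t * ζ⁻¹) * (t * t)⁻¹ by group,
      ← mem_center_iff.1 ht]
    group
  have ho := h.odd_ord (h.mq hX) (comm_self_le _ hj)
  have h6 := h.f1 hY hX hne.symm hA (h2 A hA hAt) hAX ⟨hj, h.inv_norm ht hY.1.1 h2 ho
    (GT.centralizer_anti hT (hZ hj)) e4⟩
  rw [mem_center_iff.1 h6, mul_inv_cancel_right, eq_inv_iff_mul_eq_one] at e4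
  have e5 := mem_bot.1 (mem_of_sq ho (mem_bot.2 e4))
  rw [mul_inv_eq_one] at e5
  exact mem_of_sq (h.odd_ord (h.mq hX) (comm_self_le _ hζ)) (by rwa [← e5] at h5)

theorem pt_eq (hX : Sub D X) (hc : ⁅X, X⁆ ≤ center G) (hA : A ∈ D) (hB : B ∈ D) (h1 : A ≤ X)
    (h2 : B ≤ X) : B = A := by
  obtain ⟨x, hx, rfl⟩ := h.conj' hX hA hB h1 h2
  exact GT.map_conj_eq_of_mem_norm (cnorm (hc hx) A)

theorem uniq (ht : t * t ∈ center G) (ht1 : t ∉ center G) (hX : Mx D X) (hY : Mx D Y)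
    (h1 : Nat' D t X) (h2 : Nat' D t Y) : X = Y := by
  by_contra hne
  obtain ⟨B, hB, h3, h4⟩ := hX.ex hY hne
  have := normalizer_eq_top_iff.1 (eq_top_iff.2 ((hY.sup hB h4).ge.trans (sup_le
    (h.uniq_aux ht hY hX (Ne.symm hne) h2 h1) (h3.trans (h.uniq_aux ht hX hY hne h1 h2)))))
  have h5 := gen_le_nat h1
  have h6 := h.lemA ((h.mq hX).to_le (commutator_mono h5 h5))
  obtain ⟨A, hA, hAt⟩ := h.ex_fix ht
  exact h.two_pts ht ht1 hA fun C hC hn =>
    (h.pt_eq sub_gen h6 hA hC (h.nat_gen ht A hA hAt) (h.nat_gen ht C hC hn)).le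

theorem bad (hX : Mx D X) (hY : Mx D Y) (hne : X ≠ Y) (hc : ⁅⁅X, X⁆, ⁅X, X⁆⁆ ≤ center G)
    (hA : A ∈ D) (hB : B ∈ D) (h1 : A ≤ X ⊓ Y) (h2 : B ≤ X ⊓ Y) : B = A := by
  by_contra e
  have hW := gen_le (D := D) (H := X ⊓ Y)
  have hA' := le_gen hA h1
  have k : ∀ {T : Subgroup G}, Sub D T → gen D (X ⊓ Y) ≤ T → ⁅⁅T, T⁆, ⁅T, T⁆⁆ ≤ center G →
      T ≤ gen D (normalizer ((⁅gen D (X ⊓ Y), gen D (X ⊓ Y)⁆ ⊔ center G : Subgroup G) : Set G)) :=
    fun hT h3 h4 => hT.le_gen ((h.sub_le hT hA (hA'.trans h3)).trans (sup_le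
      (le_normalizer_iff_commutator_le_left.2 ((GT.commutator_sup_le ?_
        ((commutator_mono (commutator_mono h3 h3) le_rfl).trans h4)
        (commutator_le_left _ _)).trans le_sup_right))
      (GT.PG.le_normalizer_sup (norm_comm (hA'.trans le_normalizer)) le_normalizer_of_normal)))
  swap
  · exact le_normalizer_of_normal
  have h3 := k hX.1.1 (hW.trans inf_le_left) hc
  have h4 := hX.2 ⟨sub_gen, fun e' => e (h.pt_eq sub_gen ?_ hA hB hA' (le_gen hB h2))⟩ h3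
  · have h5 : ⁅⁅Y, Y⁆, ⁅Y, Y⁆⁆ ≤ normalizer (X : Set G) := fun y hy => by
      rw [le_antisymm h3 h4]
      exact h.norm_gen (le_normalizer (GT.PG.le_normalizer_sup ((h.mst hY).trans
        ((GT.centralizer_anti ((comm_self_le _).trans (hW.trans inf_le_right))).trans
        (centralizer_le_normalizer _))) le_normalizer_of_normal hy))
    have h6 := (k hY.1.1 (hW.trans inf_le_right) ((le_inf le_rfl h5).trans
      (h.f1 hX hY hne hA (h1.trans inf_le_left) (h1.trans inf_le_right)))).trans h4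
    exact hne (le_antisymm (hY.2 hX.1 h6) h6)
  have := normalizer_eq_top_iff.1 (eq_top_iff.2 (e'.ge.trans gen_le))
  have h5 := commutator_mono (hW.trans inf_le_left) (hW.trans inf_le_left)
  refine le_sup_left.trans (h.cent_comm (GT.commutator_sup_le le_normalizer_of_normal ?_
    (commutator_le_left _ _)))
  rw [commutator_comm]
  exact GT.commutator_sup_le le_normalizer_of_normal ((commutator_mono h5 h5).trans hc)
    (commutator_le_left _ _)

theorem mx_pt (hX : Mx D X) : ¬ ⁅X, X⁆ ≤ center G ∧ ∃ A ∈ D, A ≤ X := by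
  obtain ⟨A, hA, h1⟩ : ∃ A ∈ D, (A ≤ X ∨ X = ⊥) := by
    by_contra! e
    obtain ⟨A, hA⟩ := h.ex_pt
    exact (e A hA).2 (eq_bot_iff.2 (hX.1.1.le fun B hB h1 => absurd h1 (e B hB).1))
  have k : ∀ B ∈ D, A ⊔ B ≠ ⊤ := fun B hB e => h.ce (e ▸ h.qL hA hB)
  have h1 : A ≤ X := h1.elim id fun e => hX.2 ⟨sub_mem hA, by simpa using k A hA⟩ (e ▸ bot_le)
  refine ⟨fun hc => k A hA (eq_top_iff.2 (h.hgen.ge.trans (sSup_le fun B hB => ?_))), A, hA, h1⟩
  have h2 : X ≤ A := hX.1.1.le fun C hC h2 => (h.pt_eq hX.1.1 hc hA hC h1 h2).le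
  exact le_sup_right.trans ((hX.2 ⟨(sub_mem hA).sup (sub_mem hB), k B hB⟩
    (h2.trans le_sup_left)).trans (h2.trans le_sup_left))

theorem nat_conj (hn : Nat' D t X) (g : G) : Nat' D (g * t * g⁻¹) (X ^ᶜ g) := fun B hB h1 =>
  GT.le_map_conj_iff.2 (hn _ (h.inv B hB _) (by rwa [GT.normalizer_map_conj, GT.mem_map_conj_inv]))

theorem norm_nat (ht : t * t ∈ center G) (ht1 : t ∉ center G) (hX : Mx D X) (hn : Nat' D t X)
    {g : G} (hg : ⁅g, t⁆ ∈ center G) : g ∈ normalizer (X : Set G) :=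
  GT.map_conj_eq_self_iff.1 (h.uniq ht ht1 (h.mx_conj hX g) hX (fun B hB h1 => h.nat_conj hn g B hB
    (by simpa [commutatorElement_def] using mul_mem (cnorm hg B) h1)) hn)

theorem finv (hX : Mx D X) : ∃ x, x ∉ center G ∧ Odd (orderOf x) ∧ ∀ s, s * s ∈ center G →
    s ∉ center G → s ∈ normalizer (X : Set G) → ¬ Nat' D s X → x * (s * x * s⁻¹) ∈ center G := by
  obtain ⟨h1, A₀, hA₀, hA₀X⟩ := h.mx_pt hX
  have k : ∀ s, s * s ∈ center G → s ∉ center G → s ∈ normalizer (X : Set G) → ¬ Nat' D s X →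
      ∃ Y, Mx D Y ∧ Nat' D s Y ∧ X ≠ Y ∧ ∃ A ∈ D, A ≤ X ∧ s ∈ normalizer (A : Set G) :=
    fun s hs hs1 hn hf => by
      obtain ⟨Y, hY, h2⟩ := h.ex_nat hs hs1
      exact ⟨Y, hY, h2, fun e => hf (e ▸ h2), h.fix hX.1.1 (h.mq hX) hA₀ hA₀X hs hn⟩
  by_cases hc : ⁅⁅X, X⁆, ⁅X, X⁆⁆ ≤ center G
  · obtain ⟨x, hx, hx1⟩ := SetLike.not_le_iff_exists.1 h1
    refine ⟨x, hx1, h.odd_ord (h.mq hX) hx, fun s hs hs1 hn hf => ?_⟩
    obtain ⟨Y, hY, h2, hne, A, hA, hAX, hAs⟩ := k s hs hs1 hn hf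
    exact hc (h.invert hX.1.1 (h.mq hX) hA hAX hs hn hAs (fun B hB h3 h4 => h.bad hX hY hne hc hA hB
      (le_inf hAX (h2 A hA hAs)) (le_inf h3 (h2 B hB h4))) hx)
  obtain ⟨x, hx, hx1⟩ := SetLike.not_le_iff_exists.1 hc
  refine ⟨x, hx1, h.odd_ord (h.mq hX) (comm_self_le _ hx), fun s hs hs1 hn hf => ?_⟩
  obtain ⟨Y, hY, h2, hne, A, hA, hAX, hAs⟩ := k s hs hs1 hn hf
  have h3 := GT.conj_mem_of_mem_normalizer (mem_norm_comm (mem_norm_comm hn)) hx
  refine h.f1 hY hX hne.symm hA (h2 A hA hAs) hAX ⟨mul_mem hx h3, h.norm_nat hs hs1 hY h2 ?_⟩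
  rw [← commutatorElement_inv, commutatorElement_def, show s * (x * (s * x * s⁻¹)) * s⁻¹ =
    s * x * s⁻¹ * (s * s * x) * (s * s)⁻¹ by group, ← mem_center_iff.1 hs x, ← mul_assoc,
    mul_inv_cancel_right, h.mst hX hx _ (comm_self_le _ (comm_self_le _ h3)), mul_inv_cancel, inv_one]
  exact one_mem _

end Min

theorem fano {x1 x2 x3 x4 x5 x6 x7 y1 y2 y3 y4 y5 y6 y7 : Prop} (a : x1) (b : y2)
    (l1 : y1 ∨ y4 ∨ y5) (l2 : y1 ∨ y6 ∨ y7) (l3 : x2 ∨ x4 ∨ x6) (l4 : x2 ∨ x5 ∨ x7)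
    (l5 : x3 ∨ x4 ∨ x7) (l6 : y3 ∨ y4 ∨ y7) (l7 : x3 ∨ x5 ∨ x6) (l8 : y3 ∨ y5 ∨ y6)
    (d1 : x1 → y1 → False) (d2 : x2 → y2 → False) (d3 : x3 → y3 → False) (d4 : x4 → y4 → False)
    (d5 : x5 → y5 → False) (d6 : x6 → y6 → False) (d7 : x7 → y7 → False) : False := by
  grind

/-- The points fixed by the class `s` modulo the centre lie in `X`. -/
def NatQ (D : Set (Subgroup G)) (s : G ⧸ center G) (X : Subgroup G) : Prop :=
  ∀ B ∈ D, s ∈ (normalizer (B : Set G)).map (QuotientGroup.mk' (center G)) → B ≤ X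

theorem natQ_mk {D : Set (Subgroup G)} {s : G} {X : Subgroup G} :
    NatQ D (QuotientGroup.mk' (center G) s) X ↔ Nat' D s X := by
  simp only [NatQ, Nat', mk_mem_norm]

namespace Min
variable {p q : ℕ} {F : Type*} [Group F] {D : Set (Subgroup G)} (h : Min p q F D)
variable {X Y : Subgroup G}
include h

theorem line (hX : Mx D X) {e s t : G ⧸ center G} (he : orderOf e = 2) (hn : NatQ D e X)
    (hs : orderOf s = 2) (ht : orderOf t = 2) (c : Commute s t) (hst : s ≠ t) (c1 : Commute s e)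
    (c2 : Commute t e) : NatQ D s X ∨ NatQ D t X ∨ NatQ D (s * t) X := by
  have hst := ord2_mul hs ht c hst
  obtain ⟨e, rfl⟩ := QuotientGroup.mk'_surjective _ e
  obtain ⟨s, rfl⟩ := QuotientGroup.mk'_surjective _ s
  obtain ⟨t, rfl⟩ := QuotientGroup.mk'_surjective _ t
  rw [← map_mul] at hst ⊢
  simp only [natQ_mk, mk_ord, mk_comm] at *
  have n1 := h.norm_nat he.1 he.2 hX hn c1
  have n2 := h.norm_nat he.1 he.2 hX hn c2
  by_contra! hh
  obtain ⟨x, hx, ho, k⟩ := h.finv hX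
  have k1 := k s hs.1 hs.2 n1 hh.1
  have k2 := (inferInstance : (center G).Normal).conj_mem _ (k t ht.1 ht.2 n2 hh.2.1) s
  have k3 := k _ hst.1 hst.2 (mul_mem n1 n2) hh.2.2
  refine hx (mem_of_sq ho ?_)
  convert mul_mem (mul_mem k3 (inv_mem k2))
    ((inferInstance : (center G).Normal).conj_mem' _ k1 x) using 1
  group

theorem uniqQ (hX : Mx D X) (hY : Mx D Y) {s : G ⧸ center G} (hs : orderOf s = 2)
    (h1 : NatQ D s X) (h2 : NatQ D s Y) : X = Y := by
  obtain ⟨s, rfl⟩ := QuotientGroup.mk'_surjective _ s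
  exact h.uniq (mk_ord.1 hs).1 (mk_ord.1 hs).2 hX hY (natQ_mk.1 h1) (natQ_mk.1 h2)

theorem exQ {s : G ⧸ center G} (hs : orderOf s = 2) : ∃ X, Mx D X ∧ NatQ D s X := by
  obtain ⟨s, rfl⟩ := QuotientGroup.mk'_surjective _ s
  simpa only [natQ_mk] using h.ex_nat (mk_ord.1 hs).1 (mk_ord.1 hs).2

theorem natQ_conj {s : G ⧸ center G} (g : G) (hn : NatQ D s X) :
    NatQ D (QuotientGroup.mk' _ g * s * (QuotientGroup.mk' _ g)⁻¹) (X ^ᶜ g) := by
  obtain ⟨s, rfl⟩ := QuotientGroup.mk'_surjective _ s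
  rw [← map_inv, ← map_mul, ← map_mul, natQ_mk]
  exact h.nat_conj (natQ_mk.1 hn) g

theorem col : Col fun s t : G ⧸ center G => ∀ X, Mx D X → (NatQ D s X ↔ NatQ D t X) where
  eqv := ⟨fun _ _ _ => Iff.rfl, fun h X hX => (h X hX).symm, fun h h' X hX => (h X hX).trans (h' X hX)⟩
  conj g s t e X hX := by
    obtain ⟨g, rfl⟩ := QuotientGroup.mk'_surjective _ g
    have k : ∀ s, NatQ D (QuotientGroup.mk' _ g * s * (QuotientGroup.mk' _ g)⁻¹) X ↔
        NatQ D s (X ^ᶜ g⁻¹) := fun s =>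
      ⟨fun h1 => by simpa only [map_inv, inv_inv, mul_assoc, inv_mul_cancel_left, inv_mul_cancel,
        mul_one] using h.natQ_conj g⁻¹ h1,
        fun h1 => by simpa only [GT.map_conj_map_conj_inv] using h.natQ_conj g h1⟩
    rw [k, k, e _ (h.mx_conj hX _)]
  eight s t u hs ht hu c1 c2 c3 n1 n2 n3 n4 := by
    obtain ⟨X, hX, x1⟩ := h.exQ hs
    obtain ⟨Y, hY, y2⟩ := h.exQ ht
    by_cases e : X = Y
    · subst e
      exact fun Z hZ => ⟨fun h1 => h.uniqQ hX hZ hs x1 h1 ▸ y2, fun h1 => h.uniqQ hX hZ ht y2 h1 ▸ x1⟩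
    exfalso
    have d : ∀ v, orderOf v = 2 → NatQ D v X → NatQ D v Y → False := fun v hv h1 h2 =>
      e (h.uniqQ hX hY hv h1 h2)
    have r := fun x : G ⧸ center G => Commute.refl x
    have o3 := ord2_mul hs ht c1 n1
    have o5 := ord2_mul hs hu c2 n2.symm
    have o6 := ord2_mul ht hu c3 n3.symm
    have m1 : s ≠ t * u := fun e => n4 (by
      rw [c1.eq, e, ← mul_assoc, sq2 ht, one_mul])
    have m2 : t ≠ s * u := fun e => n4 (by rw [e, ← mul_assoc, sq2 hs, one_mul])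
    have m3 : s * t ≠ s * u := fun e => n3 (mul_left_cancel e).symm
    have o7 := ord2_mul hs o6 (c1.mul_right c2) m1
    have e1 : t * (s * u) = s * (t * u) := by rw [← mul_assoc, ← c1.eq, mul_assoc]
    have e2 : s * t * (s * u) = t * u := by
      rw [c1.eq, mul_assoc, ← mul_assoc s, sq2 hs, one_mul]
    have l1 := h.line hY ht y2 hs hu c2 n2.symm c1 c3.symm
    have l2 := h.line hY ht y2 hs o6 (c1.mul_right c2) m1 c1 ((r t).mul_left c3.symm)
    have l3 := h.line hX hs x1 ht hu c3 n3.symm c1.symm c2.symm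
    have l4 := h.line hX hs x1 ht o5 (c1.symm.mul_right c3) m2 c1.symm ((r s).mul_left c2.symm)
    have c4 := ((r s).mul_right c2).mul_left (c1.symm.mul_right c3)
    have l5 := h.line hX hs x1 o3 hu (c2.mul_left c3) n4.symm ((r s).mul_left c1.symm) c2.symm
    have l6 := h.line hY ht y2 o3 hu (c2.mul_left c3) n4.symm (c1.mul_left (r t)) c3.symm
    have l7 := h.line hX hs x1 o3 o5 c4 m3 ((r s).mul_left c1.symm) ((r s).mul_left c2.symm)
    have l8 := h.line hY ht y2 o3 o5 c4 m3 (c1.mul_left (r t)) (c1.mul_left c3.symm)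
    rw [e1] at l4
    rw [mul_assoc] at l5 l6
    rw [e2] at l7 l8
    exact fano x1 y2 l1 l2 l3 l4 l5 l6 l7 l8 (d _ hs) (d _ ht) (d _ o3) (d _ hu) (d _ o5) (d _ o6)
      (d _ o7)

theorem rank3 : ¬ PRankAtLeast 2 3 (G ⧸ center G) := fun h3 => by
  obtain ⟨z, hz, h1⟩ := h.col.exists_se (fun M hM hi => by
    have : M.comap (QuotientGroup.mk' _) = ⊤ := eq_top_iff.2 (h.hgen.ge.trans
      (sSup_le fun A hA a ha => mem_of_sq ((h.hp.odd_of_ne_two h.p2).of_dvd_nat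
        (h.card A hA ▸ A.orderOf_dvd_natCard ha)) (by
          rw [mem_comap, map_mul]; exact mul_self_mem_of_index_two hi _)))
    rw [← GT.map_comap_mk' M, this, map_top_of_surjective _ (QuotientGroup.mk'_surjective _),
      index_top] at hi
    omega) h3
  obtain ⟨X, hX, hn⟩ := h.exQ hz
  have k : ∀ g, QuotientGroup.mk' _ g ∈ h.col.stab z ↔ g ∈ normalizer (X : Set G) := fun g => by
    have h2 := h.natQ_conj g hn
    have o2 : orderOf (QuotientGroup.mk' _ g * z * (QuotientGroup.mk' _ g)⁻¹) = 2 := by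
      rwa [GT.orderOf_conj]
    refine ⟨fun e => GT.map_conj_eq_self_iff.1
      (h.uniqQ (h.mx_conj hX g) hX hz ((e _ (h.mx_conj hX g)).1 h2) hn), fun e Z hZ => ?_⟩
    rw [GT.map_conj_eq_of_mem_norm e] at h2
    exact ⟨fun h1 => h.uniqQ hX hZ o2 h2 h1 ▸ hn, fun h1 => h.uniqQ hX hZ hz hn h1 ▸ h2⟩
  obtain ⟨h2, A, hA, hAX⟩ := h.mx_pt hX
  rcases h1 with h1 | h1
  · have : X.Normal := normalizer_eq_top_iff.1 (eq_top_iff.2 fun g _ => (k g).1 (h1.ge (mem_top _)))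
    exact hX.1.2 (h.eq_top hA hAX)
  have h4 := S1221.result _ h1
  have h5 : X.map (QuotientGroup.mk' _) ≤ h.col.stab z := by
    rintro _ ⟨g, hg, rfl⟩; exact (k g).2 (le_normalizer hg)
  have : ((X.map (QuotientGroup.mk' _)).subgroupOf (h.col.stab z)).Normal :=
    normal_subgroupOf_of_le_normalizer fun g hg => by
      obtain ⟨g, rfl⟩ := QuotientGroup.mk'_surjective _ g
      exact le_normalizer_map _ ⟨g, (k g).1 hg, rfl⟩
  have h6 := (map_mono (GT.le_oddCore (N := (X.map (QuotientGroup.mk' _)).subgroupOf _) (by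
    rw [Nat.card_congr (subgroupOfEquivOfLe h5).toEquiv]
    exact (h.odd_sub hX.1.1 (h.mq hX) hA hAX).of_dvd_nat (card_map_dvd _ _)))).trans h4
  rw [map_subgroupOf_eq_of_le h5, h.bar_odd, le_bot_iff, GT.map_mk'_eq_bot_iff] at h6
  exact h2 ((comm_self_le X).trans h6)

end Min

end Cfsg.Agent.AFro
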